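import Mathlib
set_option linter.all false

/-!
**TI transfer.** `H` a subgroup of a finite group `M`, `D` a set of elements of `p`-power order of `H` such that
`g s g⁻¹ ∈ H` (`s ∈ D`, `g ∈ M`) forces `g ∈ H`. Then each `s ∈ D` fixes exactly one point of `M ⧸ H`, so every
`p`-subgroup containing a conjugate `g s g⁻¹` fixes the point `g H`, and by Sylow's theorem any subgroup `L` acts
transitively on the set of points `g H` such that `L` contains some `g s g⁻¹` with `s ∈ D`.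
-/

set_option autoImplicit false
set_option linter.unusedSectionVars false

open scoped Pointwise

namespace Cfsg.Agent.H880

section TypeVersion

variable {M : Type*} [Group M] [Finite M] {p : ℕ} [hp : Fact p.Prime]

/-- The only point of `M ⧸ H` fixed by `g s g⁻¹` is `g H`. -/
theorem fixed_unique (H : Subgroup M) (D : Set M) (hTI : ∀ s ∈ D, ∀ g : M, g * s * g⁻¹ ∈ H → g ∈ H)
    {s : M} (hs : s ∈ D) (g x : M) (hx : (g * s * g⁻¹) • (x : M ⧸ H) = (x : M ⧸ H)) :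
    (x : M ⧸ H) = (g : M ⧸ H) := by
  have h1 : ((g * s * g⁻¹ * x : M) : M ⧸ H) = (x : M ⧸ H) := hx
  rw [eq_comm, QuotientGroup.eq] at h1
  have h2 : (x⁻¹ * g) * s * (x⁻¹ * g)⁻¹ ∈ H := by
    have : (x⁻¹ * g) * s * (x⁻¹ * g)⁻¹ = x⁻¹ * (g * s * g⁻¹ * x) := by group
    rw [this]; exact h1
  have h3 := hTI s hs _ h2
  rw [QuotientGroup.eq]
  exact h3

theorem card_quot_modEq (H : Subgroup M) (D : Set M)
    (hD : ∀ s ∈ D, s ∈ H ∧ ∃ k : ℕ, s ^ p ^ k = 1)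
    (hTI : ∀ s ∈ D, ∀ g : M, g * s * g⁻¹ ∈ H → g ∈ H)
    {s : M} (hs : s ∈ D) : Nat.card (M ⧸ H) ≡ 1 [MOD p] := by
  obtain ⟨hsH, k, hk⟩ := hD s hs
  have hpg : IsPGroup p (Subgroup.zpowers s) := by
    intro g
    obtain ⟨g, hg⟩ := g
    obtain ⟨n, rfl⟩ := hg
    refine ⟨k, ?_⟩
    ext
    show (s ^ n) ^ p ^ k = 1
    rw [← zpow_natCast, ← zpow_mul, mul_comm, zpow_mul, zpow_natCast, hk, one_zpow]
  have h := IsPGroup.card_modEq_card_fixedPoints hpg (M ⧸ H)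
  have h1 : Nat.card (MulAction.fixedPoints (Subgroup.zpowers s) (M ⧸ H)) = 1 := by
    rw [Nat.card_eq_one_iff_unique]
    constructor
    · constructor
      rintro ⟨x, hx⟩ ⟨y, hy⟩
      have key : ∀ z : M ⧸ H, z ∈ MulAction.fixedPoints (Subgroup.zpowers s) (M ⧸ H) →
          z = ((1 : M) : M ⧸ H) := by
        intro z hz
        induction z using QuotientGroup.induction_on with
        | H z =>
          have := hz ⟨s, Subgroup.mem_zpowers s⟩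
          refine fixed_unique H D hTI hs 1 z ?_
          have h2 : s • (z : M ⧸ H) = (z : M ⧸ H) := this
          simpa using h2
      ext
      exact (key x hx).trans (key y hy).symm
    · refine ⟨⟨((1 : M) : M ⧸ H), ?_⟩⟩
      rintro ⟨g, hg⟩
      show g • ((1 : M) : M ⧸ H) = ((1 : M) : M ⧸ H)
      have hgH : g ∈ H := by
        obtain ⟨n, rfl⟩ := hg
        exact H.zpow_mem hsH n
      have : ((g * 1 : M) : M ⧸ H) = ((1 : M) : M ⧸ H) := by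
        rw [eq_comm, QuotientGroup.eq]
        simpa using hgH
      exact this
  rw [h1] at h
  exact h

/-- A `p`-subgroup containing `g s g⁻¹` fixes `g H`. -/
theorem pgroup_fixes (H : Subgroup M) (D : Set M)
    (hD : ∀ s ∈ D, s ∈ H ∧ ∃ k : ℕ, s ^ p ^ k = 1)
    (hTI : ∀ s ∈ D, ∀ g : M, g * s * g⁻¹ ∈ H → g ∈ H)
    {s : M} (hs : s ∈ D) (g : M) (S : Subgroup M) (hS : IsPGroup p S) (hgs : g * s * g⁻¹ ∈ S)
    (x : M) (hx : x ∈ S) : x • (g : M ⧸ H) = (g : M ⧸ H) := by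
  have h := IsPGroup.card_modEq_card_fixedPoints hS (M ⧸ H)
  have h1 := card_quot_modEq H D hD hTI hs
  have hne : (MulAction.fixedPoints S (M ⧸ H)).Nonempty := by
    by_contra hcon
    rw [Set.not_nonempty_iff_eq_empty] at hcon
    rw [hcon] at h
    have h0 : Nat.card (∅ : Set (M ⧸ H)) = 0 := by simp
    rw [h0] at h
    have h2 : (0 : ℕ) ≡ 1 [MOD p] := h.symm.trans h1
    have h3 := (Nat.modEq_iff_dvd' (by norm_num)).mp h2
    have h4 : p ∣ 1 := by simpa using h3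
    exact hp.out.one_lt.ne' (Nat.dvd_one.mp h4)
  obtain ⟨y, hy⟩ := hne
  have hyg : y = (g : M ⧸ H) := by
    induction y using QuotientGroup.induction_on with
    | H y => exact fixed_unique H D hTI hs g y (hy ⟨_, hgs⟩)
  subst hyg
  exact hy ⟨x, hx⟩

/-- **TI transfer** (type version). -/
theorem ti_transfer_type (H : Subgroup M) (D : Set M)
    (hD : ∀ s ∈ D, s ∈ H ∧ ∃ k : ℕ, s ^ p ^ k = 1)
    (hTI : ∀ s ∈ D, ∀ g : M, g * s * g⁻¹ ∈ H → g ∈ H)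
    (L : Subgroup M) {s t : M} (hs : s ∈ D) (ht : t ∈ D) (g₁ g₂ : M)
    (h1 : g₁ * s * g₁⁻¹ ∈ L) (h2 : g₂ * t * g₂⁻¹ ∈ L) :
    ∃ m ∈ L, ∃ h ∈ H, g₂ = m * g₁ * h := by
  classical
  have hz : ∀ (g u : M), u ∈ D → ∀ hu : g * u * g⁻¹ ∈ L,
      ∃ P : Sylow p L, (⟨g * u * g⁻¹, hu⟩ : L) ∈ P := by
    intro g u huD hu
    obtain ⟨_, k, hk⟩ := hD u huD
    have hpg : IsPGroup p (Subgroup.zpowers (⟨g * u * g⁻¹, hu⟩ : L)) := by
      intro x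
      obtain ⟨x, hx⟩ := x
      obtain ⟨n, rfl⟩ := hx
      refine ⟨k, ?_⟩
      ext
      show ((g * u * g⁻¹) ^ n) ^ p ^ k = 1
      rw [← zpow_natCast, ← zpow_mul, mul_comm, zpow_mul, zpow_natCast]
      rw [conj_pow, hk]
      simp
    obtain ⟨P, hP⟩ := hpg.exists_le_sylow
    exact ⟨P, hP (Subgroup.mem_zpowers _)⟩
  obtain ⟨P1, hP1⟩ := hz g₁ s hs h1
  obtain ⟨P2, hP2⟩ := hz g₂ t ht h2
  obtain ⟨m, hm⟩ := MulAction.exists_smul_eq L P1 P2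
  have hp2 : IsPGroup p ((P1 : Subgroup L).map L.subtype) := P1.isPGroup'.map _
  have key : ∀ x : M, x ∈ (P1 : Subgroup L).map L.subtype → x • (g₁ : M ⧸ H) = (g₁ : M ⧸ H) :=
    fun x hx => pgroup_fixes H D hD hTI hs g₁ _ hp2 ⟨_, hP1, rfl⟩ x hx
  -- the element of `P2` is `m y m⁻¹`
  have hmem : m⁻¹ * (⟨g₂ * t * g₂⁻¹, h2⟩ : L) * m ∈ P1 := by
    have h3 : (⟨g₂ * t * g₂⁻¹, h2⟩ : L) ∈ m • P1 := by rw [hm]; exact hP2
    have h4 : (⟨g₂ * t * g₂⁻¹, h2⟩ : L) ∈ (MulAut.conj m • (P1 : Subgroup L)) := h3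
    rw [Subgroup.mem_pointwise_smul_iff_inv_smul_mem] at h4
    have h5 : (MulAut.conj m)⁻¹ • (⟨g₂ * t * g₂⁻¹, h2⟩ : L) = m⁻¹ * (⟨g₂ * t * g₂⁻¹, h2⟩ : L) * m := by
      rw [← map_inv]; simp [MulAut.smul_def, MulAut.conj_apply]
    rw [h5] at h4
    exact h4
  have h6 := key ((m : M)⁻¹ * (g₂ * t * g₂⁻¹) * (m : M)) ⟨_, hmem, rfl⟩
  have h7 : (g₂ * t * g₂⁻¹) • (((m : M) * g₁ : M) : M ⧸ H) = (((m : M) * g₁ : M) : M ⧸ H) := by
    have h8 : ((m : M)) • (((m : M)⁻¹ * (g₂ * t * g₂⁻¹) * (m : M)) • (g₁ : M ⧸ H)) = (m : M) • (g₁ : M ⧸ H) := by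
      rw [h6]
    rw [smul_smul] at h8
    have h9 : (m : M) * ((m : M)⁻¹ * (g₂ * t * g₂⁻¹) * (m : M)) = (g₂ * t * g₂⁻¹) * (m : M) := by group
    rw [h9, ← smul_smul] at h8
    exact h8
  have h8 := fixed_unique H D hTI ht g₂ _ h7
  rw [QuotientGroup.eq] at h8
  exact ⟨m, m.2, ((m : M) * g₁)⁻¹ * g₂, h8, by group⟩

end TypeVersion

/-- **TI transfer** for subgroups `H, L ≤ M` of a group `G`, `M` finite: if `g s g⁻¹ ∈ H` with `s ∈ D`, `g ∈ M`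
implies `g ∈ H`, and `L ≤ M` contains `g₁ s g₁⁻¹` and `g₂ t g₂⁻¹` with `s, t ∈ D`, `g₁, g₂ ∈ M`, then `g₂ ∈ L g₁ H`. -/
theorem ti_transfer {G : Type*} [Group G] {p : ℕ} (hp : p.Prime) (M H : Subgroup G) [Finite M] (hHM : H ≤ M)
    (D : Set G) (hD : ∀ s ∈ D, s ∈ H ∧ ∃ k : ℕ, s ^ p ^ k = 1)
    (hTI : ∀ s ∈ D, ∀ g ∈ M, g * s * g⁻¹ ∈ H → g ∈ H)
    (L : Subgroup G) {s t : G} (hs : s ∈ D) (ht : t ∈ D) {g₁ g₂ : G} (hg₁ : g₁ ∈ M) (hg₂ : g₂ ∈ M)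
    (h1 : g₁ * s * g₁⁻¹ ∈ L) (h2 : g₂ * t * g₂⁻¹ ∈ L) :
    ∃ m ∈ L, ∃ h ∈ H, g₂ = m * g₁ * h := by
  have : Fact p.Prime := ⟨hp⟩
  have hsM : s ∈ M := hHM (hD s hs).1
  have htM : t ∈ M := hHM (hD t ht).1
  obtain ⟨m, hm, h, hh, e⟩ := ti_transfer_type (p := p) (H.subgroupOf M) (Subtype.val ⁻¹' D)
    (by
      rintro ⟨x, hx⟩ hxD
      obtain ⟨hxH, k, hk⟩ := hD x hxD
      exact ⟨hxH, k, Subtype.ext hk⟩)
    (by
      rintro ⟨x, hx⟩ hxD ⟨g, hg⟩ hgx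
      exact hTI x hxD g hg hgx)
    (L.subgroupOf M) (s := ⟨s, hsM⟩) (t := ⟨t, htM⟩) hs ht ⟨g₁, hg₁⟩ ⟨g₂, hg₂⟩ h1 h2
  exact ⟨m, hm, h, hh, congrArg Subtype.val e⟩

/-- **TI transfer**, the special case `g₁ = 1`. -/
theorem ti_transfer_one {G : Type*} [Group G] {p : ℕ} (hp : p.Prime) (M H : Subgroup G) [Finite M] (hHM : H ≤ M)
    (D : Set G) (hD : ∀ s ∈ D, s ∈ H ∧ ∃ k : ℕ, s ^ p ^ k = 1)
    (hTI : ∀ s ∈ D, ∀ g ∈ M, g * s * g⁻¹ ∈ H → g ∈ H)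
    (L : Subgroup G) {s t : G} (hs : s ∈ D) (ht : t ∈ D) {g : G} (hg : g ∈ M)
    (h1 : s ∈ L) (h2 : g * t * g⁻¹ ∈ L) :
    ∃ m ∈ L, ∃ h ∈ H, g = m * h := by
  obtain ⟨m, hm, h, hh, e⟩ := ti_transfer hp M H hHM D hD hTI L hs ht (g₁ := 1) (g₂ := g) M.one_mem hg
    (by simpa using h1) h2
  exact ⟨m, hm, h, hh, by simpa using e⟩

end Cfsg.Agent.H880
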