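import Cfsg.Agent.H103.Tor.Iface
import Cfsg.Agent.H880.ClPsuE
import Cfsg.Agent.S0277
import Cfsg.Agent.H469.IrrCyc
import Cfsg.Agent.H141.Ore.Dicho
import Cfsg.Agent.H877.RadPSL
import Cfsg.Agent.FastGrp
import Cfsg.Agent.Prune
set_option linter.all false
prune_inst 0x7ffebcfbabfcbddedfff7e77fedddffc3b901fffa4dff94bffe06bff0bbf938809c5f3ad89e090fe0fd7c21418a87843f9ffeeffea6bdc7ffffd5ff45ffbee0ff5f7bd08519488340fbc2ffe03f0778e7f3fffffffffffffffffffffffffffaeffffffffffff
open scoped Cfsg.Agent.FastGrp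

-- part: H880/TorA
section
/-!
# S3235, row `PSU_n(q)` in cross characteristic: reduction to irreducible elements (for helper103)

`g ∈ SU_n(q)`, `Pr p ⟨pr g⟩`, `p ≥ 5` not the characteristic:
* `comm_of_inv` : `g` commutes with every `g`-invariant `r`-subgroup of `SU_n(q)`;
* `no_sing` : no invariant singular point;
* `no_ti` : no invariant totally isotropic subspace;
* `fix_of_inv` : an invariant non-degenerate proper subspace `W`, `2 ≤ dim W`: `g ∈ Z · fixP W`, `dim W = n - 1`.
-/

set_option autoImplicit false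
set_option linter.unusedSectionVars false

namespace Cfsg.Agent.H880.Tor

open Matrix Subgroup Module Cfsg
open Cfsg.Agent.LieClassical.HermBasic Cfsg.Agent.LieClassical.HermSiegel
open Cfsg.Agent.ClassicalGeometry.PSUAutBasic Cfsg.Agent.ClassicalGeometry.HermOrtho
open Cfsg.Agent.H880.Cl (radU act_pow_radU radU_pow fixP exists_phi transv_ne_one quasi_two eq_one_of_pr)
open Cfsg.Agent.H103.Tor (Pr Cm cj)

theorem norm_of_gen {K : Type*} [Group K] [Finite K] {a : K} {N : Subgroup K} (h : ∀ n ∈ N, a * n * a⁻¹ ∈ N) :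
    ∀ b ∈ zpowers a, ∀ n ∈ N, b * n * b⁻¹ ∈ N := by
  intro b hb
  rw [← mem_powers_iff_mem_zpowers] at hb
  obtain ⟨k, rfl⟩ := hb
  induction k with
  | zero => intro n hn; simpa using hn
  | succ k ih =>
    intro n hn
    have h1 := h _ (ih n hn)
    have e : a ^ (k + 1) * n * (a ^ (k + 1))⁻¹ = a * (a ^ k * n * (a ^ k)⁻¹) * a⁻¹ := by
      rw [pow_succ']; group
    show a ^ (k + 1) * n * (a ^ (k + 1))⁻¹ ∈ N
    rw [e]; exact h1

section Basic

variable {F : Type*} [Field F] [Fintype F] {q n : ℕ}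

theorem mat_pow (g : SU n F q) (k : ℕ) : mat (g ^ k) = mat g ^ k := by
  induction k with
  | zero => rw [pow_zero, pow_zero, mat_one]
  | succ k ih => rw [pow_succ, pow_succ, mat_mul, ih]

theorem act_pow_mem {g : SU n F q} {U : Submodule F (Fin n → F)} (hU : ∀ u ∈ U, act g u ∈ U) (k : ℕ) :
    ∀ u ∈ U, act (g ^ k) u ∈ U := by
  induction k with
  | zero => intro u hu; rw [pow_zero, act_one]; exact hu
  | succ k ih => intro u hu; rw [pow_succ, act_mul]; exact ih _ (hU u hu)

theorem act_inv_mem {g : SU n F q} {U : Submodule F (Fin n → F)} (hU : ∀ u ∈ U, act g u ∈ U) :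
    ∀ u ∈ U, act g⁻¹ u ∈ U := by
  have h1 : g⁻¹ ∈ Submonoid.powers g := by
    rw [mem_powers_iff_mem_zpowers]
    exact (zpowers g).inv_mem (mem_zpowers g)
  obtain ⟨k, hk⟩ := h1
  have hk' : g ^ k = g⁻¹ := hk
  rw [← hk']
  exact act_pow_mem hU k

theorem perp_act {g : SU n F q} {U : Submodule F (Fin n → F)} (hU : ∀ u ∈ U, act g u ∈ U) :
    ∀ v ∈ hermPerp q (U : Set (Fin n → F)), act g v ∈ hermPerp q (U : Set (Fin n → F)) := by
  intro v hv u hu
  rw [herm_act_left]
  exact hv _ (act_inv_mem hU u hu)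

/-- `g` commutes with every invariant `r`-subgroup. -/
theorem comm_of_inv (hF : Fintype.card F = q ^ 2) (hn : 3 ≤ n) {r : ℕ} [Fact r.Prime] [CharP F r] {p : ℕ}
    (hp : p.Prime) (hp5 : 5 ≤ p) (hrp : r ≠ p) {g : SU n F q} (h : Pr p (zpowers (pr n F q g)))
    {R : Subgroup (SU n F q)} (hR : IsPGroup r R) (hg : ∀ x ∈ R, g * x * g⁻¹ ∈ R) : ∀ x ∈ R, g * x = x * g := by
  have hr : r.Prime := Fact.out
  have hN : IsPGroup r (R.map (pr n F q)) := hR.map _
  have hdvd : ¬ p ∣ Nat.card (R.map (pr n F q)) := by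
    obtain ⟨k, hk⟩ := IsPGroup.iff_card.1 hN
    rw [hk]
    intro hd
    exact hrp ((Nat.prime_dvd_prime_iff_eq hp hr).1 (hp.dvd_of_dvd_pow hd)).symm
  have hinv : ∀ n' ∈ R.map (pr n F q), pr n F q g * n' * (pr n F q g)⁻¹ ∈ R.map (pr n F q) := by
    rintro _ ⟨x, hx, rfl⟩
    exact ⟨g * x * g⁻¹, hg x hx, by rw [map_mul, map_mul, map_inv]⟩
  have hc := h.centralize_of_not_dvd hp hp5 (norm_of_gen hinv) hdvd
  intro x hx
  have h1 := hc _ (mem_zpowers _) _ ⟨x, hx, rfl⟩
  have h2 : pr n F q (g * x * g⁻¹) = pr n F q x := by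
    rw [map_mul, map_mul, map_inv, h1, mul_inv_cancel_right]
  obtain ⟨k, hk⟩ := hR ⟨x, hx⟩
  have hk' : x ^ r ^ k = 1 := congrArg Subtype.val hk
  have h3 := eq_of_pr_eq hF hn (k := k) (l := k) (by rw [conj_pow, hk', mul_one, mul_inv_cancel]) hk' h2
  exact mul_inv_eq_iff_eq_mul.1 h3

/-- no invariant singular point -/
theorem no_sing (hF : Fintype.card F = q ^ 2) (hn : 3 ≤ n) {r : ℕ} [Fact r.Prime] [CharP F r] {p : ℕ}
    (hp : p.Prime) (hp5 : 5 ≤ p) (hrp : r ≠ p) {g : SU n F q} (h : Pr p (zpowers (pr n F q g)))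
    {u : Fin n → F} (hu0 : u ≠ 0) (hu : hermForm n F q u u = 0) {c : F} (hc : act g u = c • u) : False := by
  have hr : r.Prime := Fact.out
  have hc0 : c ≠ 0 := by
    rintro rfl
    rw [zero_smul, act_eq_zero] at hc
    exact hu0 hc
  have hcomm : ∀ x ∈ siegG hF u hu, g * x = x * g := by
    refine comm_of_inv hF hn hp hp5 hrp h (isPGroup_siegG hF r hu) ?_
    rintro _ ⟨w, μ, hs, rfl⟩
    rw [conj_siegel]
    have hs' : IsSiegel q (c • u) (act g w) μ := by rw [← hc]; exact hs.map g
    have hw : IsSiegel q u (act g w) μ := by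
      have := hs'.smul (c := c⁻¹)
      rwa [smul_smul, inv_mul_cancel₀ hc0, one_smul] at this
    refine ⟨_, _, hw.smul' hF (c := c), ?_⟩
    rw [← siegel_smul hF hw]
    exact siegel_congr hF _ _ hc rfl rfl
  have hfix : ∀ (w : Fin n → F) (μ : F) (hs : IsSiegel q u w μ) (v : Fin n → F),
      v + hermForm n F q v (act g u) • act g w + (μ * hermForm n F q v (act g u) - hermForm n F q v (act g w)) • act g u
        = v + hermForm n F q v u • w + (μ * hermForm n F q v u - hermForm n F q v w) • u := by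
    intro w μ hs v
    have h1 := hcomm _ ⟨w, μ, hs, rfl⟩
    have h2 : g * siegel hF u w μ hs * g⁻¹ = siegel hF u w μ hs := by rw [h1, mul_inv_cancel_right]
    rw [conj_siegel] at h2
    have h3 := congrArg (fun x => act x v) h2
    simp only [act_siegel] at h3
    exact h3
  obtain ⟨v, hv⟩ := exists_herm_ne_zero hF hu0
  have hv' : hermForm n F q v u ≠ 0 := fun h1 => hv (herm_eq_zero_swap hF h1)
  -- the norm of `c` is one
  obtain ⟨μ, hμ0, hμ⟩ := exists_trace_zero_ne hF
  have hnorm : c ^ q * c = 1 := by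
    have h1 := hfix 0 μ (isSiegel_zero hu hμ) v
    rw [hc, act_zero, smul_zero, add_zero, smul_zero, add_zero, herm_zero_right hF, sub_zero, sub_zero] at h1
    have h2 := add_left_cancel h1
    rw [smul_smul, herm_smul_right] at h2
    have h3 : (μ * (c ^ q * hermForm n F q v u) * c - μ * hermForm n F q v u) • u = 0 := by
      rw [sub_smul, h2, sub_self]
    rcases smul_eq_zero.1 h3 with h4 | h4
    · have h5 : (μ * hermForm n F q v u) * (c ^ q * c - 1) = 0 := by linear_combination h4
      rcases mul_eq_zero.1 h5 with h6 | h6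
      · exact absurd h6 (mul_ne_zero hμ0 hv')
      · exact sub_eq_zero.1 h6
    · exact absurd h4 hu0
  -- on `u^⊥`
  have h2 : ∀ w, hermForm n F q w u = 0 → ∃ a : F, act g w - c • w = a • u := by
    intro w hw
    obtain ⟨τ, hτ⟩ := exists_trace_eq hF (c := -hermForm n F q w w)
      (by rw [neg_pow_q hF, ← herm_swap hF])
    have hs : IsSiegel q u w τ := ⟨hu, hw, by rw [hτ]; ring⟩
    have h1 := hfix w τ hs v
    rw [hc, herm_smul_right] at h1
    have h3 : (c ^ q * hermForm n F q v u) • act g w - hermForm n F q v u • w =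
        ((τ * hermForm n F q v u - hermForm n F q v w) -
          (τ * (c ^ q * hermForm n F q v u) - hermForm n F q v (act g w)) * c) • u := by
      have h5 : (c ^ q * hermForm n F q v u) • act g w +
          (τ * (c ^ q * hermForm n F q v u) - hermForm n F q v (act g w)) • c • u =
          hermForm n F q v u • w + (τ * hermForm n F q v u - hermForm n F q v w) • u := by
        rw [add_assoc, add_assoc] at h1
        exact add_left_cancel h1
      rw [smul_smul _ c u] at h5
      rw [sub_smul, sub_eq_sub_iff_add_eq_add, h5, add_comm]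
    set b := hermForm n F q v u with hb
    have hcq : c ^ q ≠ 0 := pow_ne_zero _ hc0
    refine ⟨(c ^ q * b)⁻¹ * ((τ * b - hermForm n F q v w) -
          (τ * (c ^ q * b) - hermForm n F q v (act g w)) * c), ?_⟩
    rw [← smul_smul, ← h3, smul_sub, smul_smul, smul_smul, inv_mul_cancel₀ (mul_ne_zero hcq hv'), one_smul]
    congr 2
    field_simp
    linear_combination hnorm
  -- modulo `u^⊥`
  have h3 : ∀ w, hermForm n F q (act g w - c • w) u = 0 := by
    intro w
    have h4 := herm_act g w u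
    rw [hc, herm_smul_right] at h4
    rw [herm_sub_left, herm_smul_left, ← h4]
    linear_combination (-(hermForm n F q (act g w) u)) * hnorm
  -- `(g - c)³ = 0`
  have hcube : (mat g - c • (1 : Matrix (Fin n) (Fin n) F)) ^ 3 = 0 := by
    apply Matrix.ext_of_mulVec_single
    intro i
    have hM : ∀ w, (mat g - c • (1 : Matrix (Fin n) (Fin n) F)) *ᵥ w = act g w - c • w := by
      intro w
      rw [Matrix.sub_mulVec, Matrix.smul_mulVec, Matrix.one_mulVec, act_def]
    rw [pow_succ, pow_succ, pow_one, ← mulVec_mulVec, ← mulVec_mulVec, hM (Pi.single i 1),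
      hM (act g (Pi.single i 1) - c • Pi.single i 1)]
    obtain ⟨a, ha⟩ := h2 _ (h3 (Pi.single i 1))
    rw [ha, hM, act_smul, hc, smul_comm, sub_self, zero_mulVec]
  have hne : Nonempty (Fin n) := ⟨⟨0, by omega⟩⟩
  have hpow : mat (g ^ r ^ 2) = c ^ r ^ 2 • (1 : Matrix (Fin n) (Fin n) F) := by
    rw [mat_pow]
    have h4 : (mat g - c • (1 : Matrix (Fin n) (Fin n) F)) ^ r ^ 2 = 0 := by
      have h5 : 3 ≤ r ^ 2 := by nlinarith [hr.two_le]
      obtain ⟨k, hk⟩ := Nat.exists_eq_add_of_le h5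
      rw [hk, pow_add, hcube, zero_mul]
    have hcm : Commute (mat g) (c • (1 : Matrix (Fin n) (Fin n) F)) :=
      (Commute.one_right _).smul_right c
    rw [sub_pow_char_pow_of_commute _ _ hcm] at h4
    rw [sub_eq_zero.1 h4, smul_pow, one_pow]
  have hz : pr n F q (g ^ r ^ 2) = 1 := by
    rw [pr_eq_one_iff]
    refine mem_center_of_act (c := c ^ r ^ 2) fun v => ?_
    rw [act_def, hpow, Matrix.smul_mulVec, Matrix.one_mulVec]
  have hord : orderOf (pr n F q g) = p := by rw [← Nat.card_zpowers]; exact h.card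
  rw [map_pow] at hz
  have h5 := orderOf_dvd_of_pow_eq_one hz
  rw [hord] at h5
  exact hrp ((Nat.prime_dvd_prime_iff_eq hp hr).1 (hp.dvd_of_dvd_pow h5)).symm

/-- a transvection commuting with `g` gives an invariant singular point -/
theorem sing_of_comm (hF : Fintype.card F = q ^ 2) {g : SU n F q} {u : Fin n → F} (hu0 : u ≠ 0)
    (hu : hermForm n F q u u = 0) {μ : F} (hμ0 : μ ≠ 0) (hμ : μ + μ ^ q = 0)
    (hc : g * transv hF u hu μ hμ = transv hF u hu μ hμ * g) : ∃ c : F, act g u = c • u := by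
  obtain ⟨v, hv⟩ := exists_herm_ne_zero hF hu0
  have hv' : hermForm n F q v u ≠ 0 := fun h1 => hv (herm_eq_zero_swap hF h1)
  have h1 := congrArg (fun x => act x v) hc
  simp only [act_mul, act_transv, act_add, act_smul] at h1
  have h2 := add_left_cancel h1
  refine ⟨(μ * hermForm n F q v u)⁻¹ * (μ * hermForm n F q (act g v) u), ?_⟩
  rw [← smul_smul, ← h2, inv_smul_smul₀ (mul_ne_zero hμ0 hv')]

/-- no invariant totally isotropic subspace -/
theorem no_ti (hF : Fintype.card F = q ^ 2) (hn : 3 ≤ n) {r : ℕ} [Fact r.Prime] [CharP F r] {p : ℕ}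
    (hp : p.Prime) (hp5 : 5 ≤ p) (hrp : r ≠ p) {g : SU n F q} (h : Pr p (zpowers (pr n F q g)))
    {U : Submodule F (Fin n → F)} (hU : ∀ u ∈ U, ∀ v ∈ U, hermForm n F q u v = 0)
    (hgU : ∀ u ∈ U, act g u ∈ U) : U = ⊥ := by
  by_contra hU0
  obtain ⟨u, hu, hu0⟩ := Submodule.exists_mem_ne_zero_of_ne_bot hU0
  obtain ⟨μ, hμ0, hμ⟩ := exists_trace_zero_ne hF
  have hR : IsPGroup r (radU q U) := by
    rintro ⟨x, hx⟩
    exact ⟨1, Subtype.ext (by rw [pow_one]; exact radU_pow hU hx)⟩
  have hcomm := comm_of_inv hF hn hp hp5 hrp h hR (by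
    intro x hx
    have hgi := act_inv_mem hgU
    refine ⟨fun v => ?_, fun v hv => ?_⟩
    · have h1 : act (g * x * g⁻¹) v - v = act g (act x (act g⁻¹ v) - act g⁻¹ v) := by
        rw [act_sub, act_act_inv, act_mul, act_mul]
      rw [h1]
      exact hgU _ (hx.1 _)
    · rw [act_mul, act_mul, hx.2, act_act_inv]
      intro w hw
      rw [herm_act_left, inv_inv]
      exact hv _ (hgU w hw))
  have htm : transv hF u (hU u hu u hu) μ hμ ∈ radU q U := by
    refine ⟨fun v => ?_, fun v hv => ?_⟩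
    · rw [act_transv, add_sub_cancel_left]
      exact U.smul_mem _ hu
    · rw [act_transv, hv u hu, mul_zero, zero_smul, add_zero]
  obtain ⟨c, hc⟩ := sing_of_comm hF hu0 (hU u hu u hu) hμ0 hμ (hcomm _ htm)
  exact no_sing hF hn hp hp5 hrp h hu0 (hU u hu u hu) hc

/-- invariant subspaces are non-degenerate -/
theorem nondeg_of_inv (hF : Fintype.card F = q ^ 2) (hn : 3 ≤ n) {r : ℕ} [Fact r.Prime] [CharP F r] {p : ℕ}
    (hp : p.Prime) (hp5 : 5 ≤ p) (hrp : r ≠ p) {g : SU n F q} (h : Pr p (zpowers (pr n F q g)))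
    {U : Submodule F (Fin n → F)} (hgU : ∀ u ∈ U, act g u ∈ U) :
    ∀ u ∈ U, (∀ v ∈ U, hermForm n F q u v = 0) → u = 0 := by
  intro u hu huv
  have h1 : U ⊓ hermPerp q (U : Set (Fin n → F)) = ⊥ :=
    no_ti hF hn hp hp5 hrp h (fun u hu v hv => hu.2 v hv.1) fun u hu => ⟨hgU u hu.1, perp_act hgU u hu.2⟩
  have h2 : u ∈ U ⊓ hermPerp q (U : Set (Fin n → F)) := ⟨hu, huv⟩
  rw [h1] at h2
  exact (Submodule.mem_bot F).1 h2

end Basic

end Cfsg.Agent.H880.Tor
end

-- part: H880/TorB
section
/-!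
# S3235, row `PSU_n(q)` in cross characteristic: reduction to irreducible elements, II (for helper103)

* `cm_of_quasi` : `A` centralises a quasisimple subgroup normalised but not containing `A`;
* `fix_of_inv` : invariant non-degenerate subspaces have dimension `1` or `n - 1`;
* `irr_cases` : `g` is irreducible, or comes from an irreducible element of `SU_{n-1}(q)`.
-/

set_option autoImplicit false
set_option linter.unusedSectionVars false

namespace Cfsg.Agent.H880.Tor

open Matrix Subgroup Module Cfsg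
open Cfsg.Agent.LieClassical.HermBasic Cfsg.Agent.LieClassical.HermSiegel
open Cfsg.Agent.ClassicalGeometry.PSUAutBasic Cfsg.Agent.ClassicalGeometry.HermOrtho
open Cfsg.Agent.H880.Cl (radU act_pow_radU radU_pow fixP exists_phi transv_ne_one quasi_two eq_one_of_pr)
open Cfsg.Agent.H103.Tor (Pr Cm cj)

theorem cm_of_quasi {K : Type*} [Group K] [Finite K] {p : ℕ} (hp : p.Prime) (hp5 : 5 ≤ p) {A M : Subgroup K}
    (h : Pr p A) (hn : ∀ a ∈ A, ∀ n ∈ M, a * n * a⁻¹ ∈ M) (hA : ¬ A ≤ M) (hq : IsQuasisimple M) : Cm A M := by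
  have hpf := Fact.mk hp
  refine h.centralize_perfect hp hp5 hn hA ?_ ?_
  · have h1 := Subgroup.map_subtype_commutator M
    have h2 : _root_.commutator M = ⊤ := hq.1.1
    rw [h2, ← MonoidHom.range_eq_map, Subgroup.range_subtype] at h1
    exact h1.symm
  · intro P hPM hP hPn
    have hnorm : (P.subgroupOf M).Normal := by
      refine ⟨fun x hx y => ?_⟩
      rw [mem_subgroupOf] at hx ⊢
      exact hPn y y.2 x hx
    rcases SignalizersComponents.Components.quasisimple_normal hq _ hnorm with h1 | h1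
    · exfalso
      rw [subgroupOf_eq_top] at h1
      have h2 : IsPGroup p M := hP.to_le h1
      have h3 : Group.IsNilpotent M := h2.isNilpotent
      exact SignalizersComponents.Components.quasisimple_not_isSolvable hq inferInstance
    · intro x hx y hy
      have h2 : (⟨x, hPM hx⟩ : M) ∈ center M := h1 (mem_subgroupOf.2 hx)
      have h3 := mem_center_iff.1 h2 ⟨y, hy⟩
      exact (congrArg Subtype.val h3).symm

section Basic

variable {F : Type*} [Field F] [Fintype F] {q n : ℕ}

/-- a non-degenerate subspace of dimension at least two contains a singular vector -/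
theorem exists_sing (hF : Fintype.card F = q ^ 2) {W : Submodule F (Fin n → F)}
    (hW : ∀ u ∈ W, (∀ v ∈ W, hermForm n F q u v = 0) → u = 0) (h2 : 2 ≤ finrank F W) :
    ∃ u ∈ W, u ≠ 0 ∧ hermForm n F q u u = 0 := by
  obtain ⟨m, hm⟩ : ∃ m, finrank F W = m := ⟨_, rfl⟩
  rw [hm] at h2
  obtain ⟨b, hbW, hb⟩ := exists_orthonormal hF W hW hm
  obtain ⟨c₀, hc₀⟩ := exists_norm_eq hF (c := -1) (by rw [neg_pow_q hF, one_pow])
  have hij : (⟨0, by omega⟩ : Fin m) ≠ ⟨1, by omega⟩ := by simp
  refine ⟨b ⟨0, by omega⟩ + c₀ • b ⟨1, by omega⟩, W.add_mem (hbW _) (W.smul_mem _ (hbW _)), ?_, ?_⟩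
  · intro h0
    have h1 : hermForm n F q (b ⟨0, by omega⟩ + c₀ • b ⟨1, by omega⟩) (b ⟨0, by omega⟩) = 0 := by
      rw [h0, herm_zero_left]
    rw [herm_add_left, herm_smul_left, hb, hb, if_pos rfl, if_neg (Ne.symm hij), mul_zero, add_zero] at h1
    exact one_ne_zero h1
  · rw [herm_add_left, herm_add_right hF, herm_add_right hF, herm_smul_left, herm_smul_right, herm_smul_left,
      herm_smul_right, hb, hb, hb, hb, if_pos rfl, if_pos rfl, if_neg hij, if_neg (Ne.symm hij)]
    linear_combination hc₀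

theorem inj_phi (hF : Fintype.card F = q ^ 2) (hn : 3 ≤ n) {W : Submodule F (Fin n → F)}
    (hW : ∀ u ∈ W, (∀ v ∈ W, hermForm n F q u v = 0) → u = 0) {m : ℕ} (hm : finrank F W = m) (hlt : m < n)
    {φ : SU m F q →* SU n F q} (hφ : Function.Injective φ) (hran : φ.range = fixP q W) :
    Function.Injective ((pr n F q).comp φ) := by
  have hWp : hermPerp q (W : Set (Fin n → F)) ≠ ⊥ := by
    intro h
    have h1 := finrank_hermPerp_of_nondeg hF W hW
    rw [h, finrank_bot] at h1
    omega
  obtain ⟨v₀, hv₀, hv₀1⟩ := exists_norm_one_vector hF _ (hermPerp_nondeg hF W hW) hWp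
  have hv₀0 : v₀ ≠ 0 := by
    rintro rfl
    rw [herm_zero_left] at hv₀1
    exact zero_ne_one hv₀1
  rw [injective_iff_map_eq_one]
  intro a ha
  have h1 : φ a ∈ fixP q W := hran ▸ ⟨a, rfl⟩
  have h3 : pr n F q (φ a) = 1 := ha
  rw [pr_eq_one_iff] at h3
  obtain ⟨c, -, -, hc⟩ := exists_scalar_of_mem_center hF hn h3
  have h4 := h1 v₀ hv₀
  rw [hc] at h4
  have h5 : (c - 1) • v₀ = 0 := by rw [sub_smul, one_smul, h4, sub_self]
  have h6 : c = 1 := by
    rcases smul_eq_zero.mp h5 with h | h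
    · exact sub_eq_zero.mp h
    · exact absurd h hv₀0
  apply hφ
  rw [map_one]
  apply ext_act
  intro v
  rw [hc, h6, one_smul, act_one]

end Basic

/-- small unitary groups -/
theorem not_dvd_small {F : Type*} [Field F] [Fintype F] {q m : ℕ} (hF : Fintype.card F = q ^ 2) {p : ℕ} (hp : p.Prime)
    (hp5 : 5 ≤ p) (h : (m = 3 ∧ q = 2) ∨ (m = 2 ∧ q = 2) ∨ (m = 2 ∧ q = 3)) : ¬ p ∣ Nat.card (SU m F q) := by
  intro hd
  have h1 := Cfsg.Agent.LieClassical.GUOrder.card_GU_eq hF (n := m) (by omega)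
  rw [Cfsg.Agent.S0277.result hF m] at h1
  have h2 : p ∣ (q + 1) * Nat.card (SU m F q) := Dvd.dvd.mul_left hd _
  rw [← h1] at h2
  have key : p ∣ 2 ^ 5 * 3 ^ 4 := by
    rcases h with ⟨rfl, rfl⟩ | ⟨rfl, rfl⟩ | ⟨rfl, rfl⟩
    · refine h2.trans ?_
      rw [Finset.prod_range_succ, Finset.prod_range_succ, Finset.prod_range_one, if_pos (by decide), if_neg (by decide),
        if_pos (by decide)]
      norm_num
    · refine h2.trans ?_
      rw [Finset.prod_range_succ, Finset.prod_range_one, if_pos (by decide), if_neg (by decide)]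
      norm_num
    · refine h2.trans ?_
      rw [Finset.prod_range_succ, Finset.prod_range_one, if_pos (by decide), if_neg (by decide)]
      norm_num
  rcases (Nat.Prime.dvd_mul hp).1 key with h3 | h3
  · have h4 := Nat.le_of_dvd (by norm_num) (hp.dvd_of_dvd_pow h3)
    omega
  · have h4 := Nat.le_of_dvd (by norm_num) (hp.dvd_of_dvd_pow h3)
    omega

/-- **Invariant non-degenerate subspaces.** -/
theorem fix_of_inv {F : Type} [Field F] [Fintype F] {q n : ℕ} (hF : Fintype.card F = q ^ 2) (hn : 3 ≤ n) {r : ℕ}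
    [Fact r.Prime] [CharP F r] {p : ℕ} (hp : p.Prime) (hp5 : 5 ≤ p) (hrp : r ≠ p) {g : SU n F q}
    (h : Pr p (zpowers (pr n F q g))) {W : Submodule F (Fin n → F)} (hgW : ∀ w ∈ W, act g w ∈ W)
    (h2 : 2 ≤ finrank F W) (hlt : finrank F W < n) :
    finrank F W + 1 = n ∧ ∃ f ∈ fixP q W, pr n F q f = pr n F q g := by
  have hW := nondeg_of_inv hF hn hp hp5 hrp h hgW
  obtain ⟨m, hm⟩ : ∃ m, finrank F W = m := ⟨_, rfl⟩
  rw [hm] at h2 hlt
  rw [hm]
  obtain ⟨φ, hφ, hran⟩ := exists_phi hF hW hm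
  have hinj := inj_phi hF hn hW hm hlt hφ hran
  set M : Subgroup (PSU n F q) := ((pr n F q).comp φ).range with hM
  have hMmem : ∀ x, x ∈ M ↔ ∃ f ∈ fixP q W, pr n F q f = x := by
    intro x
    constructor
    · rintro ⟨a, rfl⟩
      exact ⟨φ a, hran ▸ ⟨a, rfl⟩, rfl⟩
    · rintro ⟨f, hf, rfl⟩
      rw [← hran] at hf
      obtain ⟨a, rfl⟩ := hf
      exact ⟨a, rfl⟩
  have hMinv : ∀ x ∈ M, pr n F q g * x * (pr n F q g)⁻¹ ∈ M := by
    intro x hx
    rw [hMmem] at hx ⊢
    obtain ⟨f, hf, rfl⟩ := hx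
    refine ⟨g * f * g⁻¹, fun v hv => ?_, by rw [map_mul, map_mul, map_inv]⟩
    rw [act_mul, act_mul, hf _ (perp_act (act_inv_mem hgW) v hv), act_act_inv]
  by_cases hA : pr n F q g ∈ M
  · obtain ⟨f, hf, hfg⟩ := (hMmem _).1 hA
    refine ⟨?_, f, hf, hfg⟩
    by_contra hne
    obtain ⟨z, hz, hgz⟩ := exists_center_mul hfg
    obtain ⟨c, -, -, hc⟩ := exists_scalar_of_mem_center hF hn hz
    have hdim := finrank_hermPerp_of_nondeg hF W hW
    obtain ⟨u, hu, hu0, huu⟩ := exists_sing hF (hermPerp_nondeg hF W hW) (by omega)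
    refine no_sing hF hn hp hp5 hrp h hu0 huu (c := c) ?_
    rw [hgz, act_mul, hc, act_smul, hf u hu]
  · exfalso
    have hA' : ¬ zpowers (pr n F q g) ≤ M := fun hle => hA (hle (mem_zpowers _))
    have hCm : Cm (zpowers (pr n F q g)) M := by
      have hcard : Nat.card M = Nat.card (SU m F q) := Nat.card_congr (MonoidHom.ofInjective hinj).symm.toEquiv
      have hq2 := two_le hF
      by_cases h3 : 3 ≤ m ∧ ¬ (m = 3 ∧ q = 2)
      · exact cm_of_quasi hp hp5 h (norm_of_gen hMinv) hA'
          (SignalizersComponents.Components.isQuasisimple_of_mulEquiv (MonoidHom.ofInjective hinj)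
            (GenPsu.quasi hF h3.1 h3.2))
      by_cases h4 : 4 ≤ q ∧ m = 2
      · obtain ⟨h4, rfl⟩ := h4
        exact cm_of_quasi hp hp5 h (norm_of_gen hMinv) hA'
          (SignalizersComponents.Components.isQuasisimple_of_mulEquiv (MonoidHom.ofInjective hinj) (quasi_two hF h4))
      · refine h.centralize_of_not_dvd hp hp5 (norm_of_gen hMinv) ?_
        rw [hcard]
        exact not_dvd_small hF hp hp5 (by omega)
    obtain ⟨u, hu, hu0, huu⟩ := exists_sing hF hW (by omega)
    obtain ⟨μ, hμ0, hμ⟩ := exists_trace_zero_ne hF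
    have ht : transv hF u huu μ hμ ∈ fixP q W := by
      intro v hv
      rw [act_transv, hv u hu, mul_zero, zero_smul, add_zero]
    obtain ⟨k, hk⟩ := siegel_pow_prime_pow hF r (isSiegel_zero huu hμ)
    have hk' : transv hF u huu μ hμ ^ r ^ k = 1 := hk
    have h1 := hCm _ (mem_zpowers _) _ ((hMmem _).2 ⟨_, ht, rfl⟩)
    have h3 : pr n F q (g * transv hF u huu μ hμ * g⁻¹) = pr n F q (transv hF u huu μ hμ) := by
      rw [map_mul, map_mul, map_inv, h1, mul_inv_cancel_right]
    have h4 := eq_of_pr_eq hF hn (k := k) (l := k) (by rw [conj_pow, hk', mul_one, mul_inv_cancel]) hk' h3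
    obtain ⟨c, hc⟩ := sing_of_comm hF hu0 huu hμ0 hμ (mul_inv_eq_iff_eq_mul.1 h4)
    exact no_sing hF hn hp hp5 hrp h hu0 huu hc

end Cfsg.Agent.H880.Tor
end

-- part: H880/TorC
section
/-!
# S3235, row `PSU_n(q)` in cross characteristic: reduction to irreducible elements, III (for helper103)

* `exists_phi_iota` : the copy of `SU (dim W)` on `W`, with the isometric embedding;
* `irr_cases` : `g` is irreducible, or comes from an irreducible element of `SU_{n-1}(q)`.
-/

set_option autoImplicit false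
set_option linter.unusedSectionVars false

namespace Cfsg.Agent.H880.Tor

open Matrix Subgroup Module Cfsg
open Cfsg.Agent.LieClassical.SUBasic (mem_center_SU_iff suScalar)
open Cfsg.Agent.LieClassical.HermBasic Cfsg.Agent.LieClassical.HermSiegel
open Cfsg.Agent.ClassicalGeometry.PSUAutBasic Cfsg.Agent.ClassicalGeometry.HermOrtho
open Cfsg.Agent.ClassicalGeometry.PSUAutCount (toAut gm gm_mul gm_one gm_mul_inv gm_inv_mul semiConj guConj act_guConj
  herm_gm gm_inv_mulVec gm_mulVec_inv herm_map gm_inj)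
open Cfsg.Agent.H880.Cl (radU act_pow_radU radU_pow fixP transv_ne_one quasi_two eq_one_of_pr mem_range_ext
  guConj_inv_apply)
open Cfsg.Agent.H103.Tor (Pr Cm cj)

section Basic

variable {F : Type*} [Field F] [Fintype F] {q n : ℕ}

/-- **The copy of `SU (dim W)` on `W`, with the isometric embedding.** -/
theorem exists_phi_iota (hF : Fintype.card F = q ^ 2) {W : Submodule F (Fin n → F)}
    (hW : ∀ u ∈ W, (∀ v ∈ W, hermForm n F q u v = 0) → u = 0) {m : ℕ} (hm : finrank F W = m) :
    ∃ (φ : SU m F q →* SU n F q) (ι : (Fin m → F) →ₗ[F] (Fin n → F)), Function.Injective φ ∧ φ.range = fixP q W ∧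
      Function.Injective ι ∧ LinearMap.range ι = W ∧ ∀ a x, act (φ a) (ι x) = ι (act a x) := by
  have hmn : m ≤ n := by
    have h1 := Submodule.finrank_le W
    rwa [hm, finrank_fin_fun] at h1
  obtain ⟨k, rfl⟩ := Nat.exists_eq_add_of_le hmn
  let e0 : Fin m ⊕ Fin k ≃ Fin (m + k) := finSumFinEquiv
  obtain ⟨P, hP, hPx⟩ := exists_GU_adapted hF e0 W hW hm
  let P' : GU (m + k) F q := ⟨P, hP⟩
  have hPx' : ∀ x, gm P' *ᵥ x ∈ W ↔ ∀ j : Fin k, x (e0 (.inr j)) = 0 := hPx
  let e : Fin m → Fin (m + k) := fun i => e0 (.inl i)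
  have he : Function.Injective e := fun i j h => Sum.inl_injective (e0.injective h)
  have hran : ∀ x, x ∉ Set.range e → ∃ j, x = e0 (.inr j) := by
    intro x hx
    obtain ⟨s, rfl⟩ := e0.surjective x
    rcases s with i | j
    · exact absurd ⟨i, rfl⟩ hx
    · exact ⟨j, rfl⟩
  have hinr : ∀ (v : Fin m → F) (j : Fin k), (Phan.inc F e *ᵥ v) (e0 (.inr j)) = 0 := by
    intro v j
    apply Phan.inc_mulVec_of_notMem
    intro i h
    exact absurd (e0.injective h) (by simp)
  refine ⟨(guConj P').toMonoidHom.comp (Phan.ext hF e he),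
    (Matrix.mulVecLin (gm P')).comp (Matrix.mulVecLin (Phan.inc F e)), ?_, ?_, ?_, ?_, ?_⟩
  · exact (guConj P').injective.comp (Phan.ext_injective hF he)
  · ext g
    constructor
    · rintro ⟨a, rfl⟩ v hv
      show act (guConj P' (Phan.ext hF e he a)) v = v
      rw [act_guConj]
      have hy : ∀ i, (gm P'⁻¹ *ᵥ v) (e i) = 0 := by
        intro i
        have h1 : hermForm (m + k) F q (gm P'⁻¹ *ᵥ v) (Pi.single (e i) 1) = 0 := by
          rw [← herm_gm P', gm_mulVec_inv]
          refine hv _ ?_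
          rw [SetLike.mem_coe, hPx']
          intro j
          rw [Pi.single_eq_of_ne]
          intro h
          exact absurd (e0.injective h) (by simp)
        rwa [herm_single_right hF, one_pow, mul_one] at h1
      have h2 : act (Phan.ext hF e he a) (gm P'⁻¹ *ᵥ v) = gm P'⁻¹ *ᵥ v := by
        funext x
        by_cases hx : x ∈ Set.range e
        · obtain ⟨i, rfl⟩ := hx
          have h3 : act (Phan.ext hF e he a) (gm P'⁻¹ *ᵥ v) (e i) = (Phan.mat a *ᵥ ((gm P'⁻¹ *ᵥ v) ∘ e)) i :=
            Phan.extM_mulVec he _ _ _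
          have h4 : (gm P'⁻¹ *ᵥ v) ∘ e = 0 := funext hy
          rw [h3, h4, mulVec_zero, hy]
          rfl
        · exact Phan.extM_mulVec_of_notMem (fun i hi => hx ⟨i, hi.symm⟩) _ _
      rw [h2, gm_mulVec_inv]
    · intro hg
      obtain ⟨a, ha⟩ : ∃ a : SU m F q, Phan.ext hF e he a = guConj P'⁻¹ g := by
        apply mem_range_ext hF he
        intro x hx
        obtain ⟨j, rfl⟩ := hran x hx
        have h1 : gm P' *ᵥ (Pi.single (e0 (.inr j)) 1 : Fin (m + k) → F) ∈
            hermPerp q (W : Set (Fin (m + k) → F)) := by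
          intro w hw
          have h2 : (gm P'⁻¹ *ᵥ w) (e0 (.inr j)) = 0 := by
            refine (hPx' _).1 ?_ j
            rw [gm_mulVec_inv]
            exact hw
          rw [← gm_mulVec_inv P' w, herm_gm, herm_single_left, h2, zero_pow_q hF, mul_zero]
        rw [act_guConj, inv_inv, hg _ h1, gm_inv_mulVec]
      refine ⟨a, ?_⟩
      show guConj P' (Phan.ext hF e he a) = g
      rw [ha, guConj_inv_apply]
  · intro x y hxy
    have h1 : gm P' *ᵥ (Phan.inc F e *ᵥ x) = gm P' *ᵥ (Phan.inc F e *ᵥ y) := hxy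
    have h2 : Phan.inc F e *ᵥ x = Phan.inc F e *ᵥ y := by
      rw [← gm_inv_mulVec P' (Phan.inc F e *ᵥ x), h1, gm_inv_mulVec]
    funext i
    rw [← Phan.inc_mulVec he x i, h2, Phan.inc_mulVec he]
  · ext w
    rw [LinearMap.mem_range]
    constructor
    · rintro ⟨x, rfl⟩
      show gm P' *ᵥ (Phan.inc F e *ᵥ x) ∈ W
      rw [hPx']
      exact hinr x
    · intro hw
      refine ⟨(gm P'⁻¹ *ᵥ w) ∘ e, ?_⟩
      show gm P' *ᵥ (Phan.inc F e *ᵥ ((gm P'⁻¹ *ᵥ w) ∘ e)) = w
      have h1 : Phan.inc F e *ᵥ ((gm P'⁻¹ *ᵥ w) ∘ e) = gm P'⁻¹ *ᵥ w := by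
        funext x
        by_cases hx : x ∈ Set.range e
        · obtain ⟨i, rfl⟩ := hx
          rw [Phan.inc_mulVec he]
          rfl
        · obtain ⟨j, rfl⟩ := hran x hx
          rw [hinr]
          symm
          refine (hPx' _).1 ?_ j
          rw [gm_mulVec_inv]
          exact hw
      rw [h1, gm_mulVec_inv]
  · intro a x
    show act (guConj P' (Phan.ext hF e he a)) (gm P' *ᵥ (Phan.inc F e *ᵥ x)) =
      gm P' *ᵥ (Phan.inc F e *ᵥ (act a x))
    rw [act_guConj, gm_inv_mulVec]
    congr 1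
    exact Phan.extM_inc he _ _

/-- the complement in an invariant subspace -/
theorem finrank_inf_perp (hF : Fintype.card F = q ^ 2) {U W : Submodule F (Fin n → F)}
    (hU : ∀ u ∈ U, (∀ v ∈ U, hermForm n F q u v = 0) → u = 0) (hUW : U ≤ W) :
    U ⊔ (hermPerp q (U : Set (Fin n → F)) ⊓ W) = W ∧
      finrank F U + finrank F (hermPerp q (U : Set (Fin n → F)) ⊓ W : Submodule F (Fin n → F)) = finrank F W := by
  have hc := isCompl_hermPerp hF U hU
  have h1 : U ⊔ (hermPerp q (U : Set (Fin n → F)) ⊓ W) = W := by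
    rw [← sup_inf_assoc_of_le _ hUW, hc.sup_eq_top, top_inf_eq]
  refine ⟨h1, ?_⟩
  have h2 := Submodule.finrank_sup_add_finrank_inf_eq U (hermPerp q (U : Set (Fin n → F)) ⊓ W)
  have h3 : U ⊓ (hermPerp q (U : Set (Fin n → F)) ⊓ W) = ⊥ := by
    rw [← inf_assoc, hc.inf_eq_bot, bot_inf_eq]
  rw [h1, h3, finrank_bot, add_zero] at h2
  exact h2.symm

end Basic

section Irr

variable {F : Type} [Field F] [Fintype F] {q n : ℕ}

/-- in dimension three `g ^ 3` is trivial on the complement of an invariant plane -/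
theorem cube_perp (hF : Fintype.card F = q ^ 2) {r : ℕ}
    [Fact r.Prime] [CharP F r] {p : ℕ} (hp : p.Prime) (hp5 : 5 ≤ p) (hrp : r ≠ p) {g : SU 3 F q}
    (h : Pr p (zpowers (pr 3 F q g))) {W : Submodule F (Fin 3 → F)} (hgW : ∀ w ∈ W, act g w ∈ W)
    (h2 : finrank F W = 2) : ∀ v ∈ hermPerp q (W : Set (Fin 3 → F)), act (g ^ 3) v = v := by
  obtain ⟨-, f, hf, hfg⟩ := fix_of_inv hF le_rfl hp hp5 hrp h hgW (by omega) (by omega)
  obtain ⟨z, hz, hgz⟩ := exists_center_mul hfg
  obtain ⟨c, hc3, hcq, rfl⟩ := (mem_center_SU_iff hF le_rfl z).1 hz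
  intro v hv
  have h1 : ∀ w ∈ hermPerp q (W : Set (Fin 3 → F)), act g w = c • w := by
    intro w hw
    rw [hgz, act_mul, act_suScalar hc3 hcq, act_smul, hf w hw]
  rw [pow_succ, pow_succ, pow_one, act_mul, act_mul, h1 v hv, act_smul, h1 v hv, act_smul, act_smul, h1 v hv,
    smul_smul, smul_smul]
  have h3 : c * c * c = 1 := by rw [← hc3]; ring
  rw [h3, one_smul]

/-- **The reduction.** -/
theorem irr_cases (hF : Fintype.card F = q ^ 2) (hn : 3 ≤ n) {r : ℕ}
    [Fact r.Prime] [CharP F r] {p : ℕ} (hp : p.Prime) (hp5 : 5 ≤ p) (hrp : r ≠ p) {g : SU n F q}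
    (h : Pr p (zpowers (pr n F q g))) :
    (∀ W : Submodule F (Fin n → F), (∀ w ∈ W, act g w ∈ W) → W = ⊥ ∨ W = ⊤) ∨
      ∃ (m : ℕ) (g' : SU m F q), m + 1 = n ∧ Pr p (zpowers (pr m F q g')) ∧
        ∀ W : Submodule F (Fin m → F), (∀ w ∈ W, act g' w ∈ W) → W = ⊥ ∨ W = ⊤ := by
  classical
  by_cases hirr : ∀ W : Submodule F (Fin n → F), (∀ w ∈ W, act g w ∈ W) → W = ⊥ ∨ W = ⊤
  · exact Or.inl hirr
  right
  push Not at hirr
  obtain ⟨U, hgU, hU0, hU1⟩ := hirr
  have hU0' : 0 < finrank F U := by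
    rw [Nat.pos_iff_ne_zero, Ne, Submodule.finrank_eq_zero]
    exact hU0
  have hU1' : finrank F U < n := by
    have h1 := Submodule.finrank_lt hU1
    rwa [finrank_fin_fun] at h1
  -- an invariant hyperplane
  obtain ⟨W, hgW, hWn, hW2⟩ : ∃ W : Submodule F (Fin n → F), (∀ w ∈ W, act g w ∈ W) ∧ finrank F W + 1 = n ∧
      2 ≤ finrank F W := by
    by_cases h2 : 2 ≤ finrank F U
    · exact ⟨U, hgU, (fix_of_inv hF hn hp hp5 hrp h hgU h2 hU1').1, h2⟩
    · have hdim := finrank_hermPerp_of_nondeg hF U (nondeg_of_inv hF hn hp hp5 hrp h hgU)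
      exact ⟨_, perp_act hgU, by omega, by omega⟩
  have hWlt : finrank F W < n := by omega
  have hWnd := nondeg_of_inv hF hn hp hp5 hrp h hgW
  obtain ⟨m, hm⟩ : ∃ m, finrank F W = m := ⟨_, rfl⟩
  obtain ⟨-, f, hf, hfg⟩ := fix_of_inv hF hn hp hp5 hrp h hgW hW2 hWlt
  obtain ⟨z, hz, hgz⟩ := exists_center_mul hfg
  obtain ⟨c, hc0, -, hc⟩ := exists_scalar_of_mem_center hF hn hz
  obtain ⟨φ, ι, hφ, hran, hι, hιW, hact⟩ := exists_phi_iota hF hWnd hm
  have hinj := inj_phi hF hn hWnd hm (by omega) hφ hran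
  have hfr : f ∈ φ.range := by rw [hran]; exact hf
  obtain ⟨g', rfl⟩ := hfr
  -- invariant subspaces of `W`
  have hsub : ∀ U : Submodule F (Fin n → F), U ≤ W → (∀ u ∈ U, act g u ∈ U) → U = ⊥ ∨ U = W := by
    intro U hUW hgU
    by_contra hcon
    push Not at hcon
    obtain ⟨hU0, hU1⟩ := hcon
    have hU0' : 0 < finrank F U := by
      rw [Nat.pos_iff_ne_zero, Ne, Submodule.finrank_eq_zero]
      exact hU0
    have hUlt : finrank F U < finrank F W := Submodule.finrank_lt_finrank_of_lt (lt_of_le_of_ne hUW hU1)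
    have hUnd := nondeg_of_inv hF hn hp hp5 hrp h hgU
    obtain ⟨hsup, hdim⟩ := finrank_inf_perp hF hUnd hUW
    have hgU' : ∀ u ∈ hermPerp q (U : Set (Fin n → F)) ⊓ W, act g u ∈ hermPerp q (U : Set (Fin n → F)) ⊓ W :=
      fun u hu => ⟨perp_act hgU u hu.1, hgW u hu.2⟩
    have h1 : finrank F U = 1 := by
      by_contra hne
      have := (fix_of_inv hF hn hp hp5 hrp h hgU (by omega) (by omega)).1
      omega
    have h2 : finrank F (hermPerp q (U : Set (Fin n → F)) ⊓ W : Submodule F (Fin n → F)) = 1 := by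
      by_contra hne
      have := (fix_of_inv hF hn hp hp5 hrp h hgU' (by omega) (by omega)).1
      omega
    have hn3 : n = 3 := by omega
    subst hn3
    -- three lines
    have hdimU := finrank_hermPerp_of_nondeg hF U hUnd
    have hU'nd := nondeg_of_inv hF hn hp hp5 hrp h hgU'
    have hdimU' := finrank_hermPerp_of_nondeg hF _ hU'nd
    have k1 := cube_perp hF hp hp5 hrp h hgW (by omega)
    have k2 := cube_perp hF hp hp5 hrp h (perp_act hgU) (by omega)
    have k3 := cube_perp hF hp hp5 hrp h (perp_act hgU') (by omega)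
    have dbl : ∀ (X : Submodule F (Fin 3 → F)), ∀ x ∈ X,
        x ∈ hermPerp q ((hermPerp q (X : Set (Fin 3 → F)) : Submodule F (Fin 3 → F)) : Set (Fin 3 → F)) := by
      intro X x hx y hy
      exact herm_eq_zero_swap hF (hy x hx)
    have hcube : g ^ 3 = 1 := by
      apply ext_act
      intro v
      rw [act_one]
      obtain ⟨w, hw, w', hw', rfl⟩ := exists_add_perp hF W hWnd v
      obtain ⟨x, hx, y, hy, hxy⟩ := exists_add_perp hF U hUnd w
      have hyW : y ∈ W := by
        have : y = w - x := by rw [hxy]; abel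
        rw [this]
        exact W.sub_mem hw (hUW hx)
      rw [act_add, k1 w' hw', hxy, act_add, k2 x (dbl U x hx), k3 y (dbl _ y ⟨hy, hyW⟩)]
    have hord : orderOf (pr 3 F q g) = p := by rw [← Nat.card_zpowers]; exact h.card
    have h5 : pr 3 F q g ^ 3 = 1 := by rw [← map_pow, hcube, map_one]
    have h6 := Nat.le_of_dvd (by norm_num) (orderOf_dvd_of_pow_eq_one h5)
    omega
  refine ⟨m, g', by omega, ?_, ?_⟩
  · have h1 : Pr p (zpowers g') := by
      apply Pr.of_injective hinj
      rw [MonoidHom.map_zpowers]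
      have : ((pr n F q).comp φ) g' = pr n F q g := hfg
      rw [this]
      exact h
    have h2 : zpowers (pr m F q g') = (zpowers g').map (pr m F q) := (MonoidHom.map_zpowers _ _).symm
    rw [h2]
    refine h1.map hp hp5 (pr m F q) (pr_surjective) ?_
    -- `g'` is not central
    intro hle
    have hg'z : g' ∈ (pr m F q).ker := hle (mem_zpowers _)
    rw [MonoidHom.mem_ker, pr_eq_one_iff] at hg'z
    -- `g'` commutes with the transvections
    have hnd : ∀ u ∈ (⊤ : Submodule F (Fin m → F)), (∀ v ∈ (⊤ : Submodule F (Fin m → F)), hermForm m F q u v = 0) →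
        u = 0 := by
      intro u _ hu
      by_contra hu0
      obtain ⟨v, hv⟩ := exists_herm_ne_zero hF hu0
      exact hv (hu v trivial)
    obtain ⟨u, -, hu0, huu⟩ := exists_sing hF hnd (by rw [finrank_top, finrank_fin_fun]; omega)
    obtain ⟨μ, hμ0, hμ⟩ := exists_trace_zero_ne hF
    obtain ⟨b, hb⟩ := sing_of_comm hF (g := g') hu0 huu hμ0 hμ (mem_center_iff.1 hg'z _).symm
    have h3 : act (φ g') (ι u) = b • ι u := by rw [hact, hb, map_smul]
    have h4 : act g (ι u) = (c * b) • ι u := by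
      rw [hgz, act_mul, hc, act_smul, h3, smul_smul]
    -- the line spanned by `ι u` is invariant
    rcases hsub (Submodule.span F {ι u}) (by
      rw [Submodule.span_singleton_le_iff_mem, ← hιW]
      exact ⟨u, rfl⟩) (by
      intro w hw
      obtain ⟨a, rfl⟩ := Submodule.mem_span_singleton.1 hw
      rw [act_smul, h4]
      exact Submodule.smul_mem _ _ (Submodule.smul_mem _ _ (Submodule.mem_span_singleton_self _))) with h5 | h5
    · rw [Submodule.span_singleton_eq_bot] at h5
      exact hu0 (hι (by rw [h5, map_zero]))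
    · have h6 := finrank_span_singleton (K := F) (v := ι u) (fun h0 => hu0 (hι (by rw [h0, map_zero])))
      rw [h5] at h6
      omega
  · intro X hX
    have hinv : ∀ u ∈ X.map ι, act g u ∈ X.map ι := by
      rintro _ ⟨x, hx, rfl⟩
      rw [hgz, act_mul, hc, act_smul, hact]
      exact Submodule.smul_mem _ _ ⟨_, hX x hx, rfl⟩
    rcases hsub (X.map ι) (by
      rintro _ ⟨x, -, rfl⟩
      rw [← hιW]
      exact ⟨x, rfl⟩) hinv with h1 | h1
    · left
      rw [eq_bot_iff]
      intro x hx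
      have h2 : ι x ∈ X.map ι := ⟨x, hx, rfl⟩
      rw [h1, Submodule.mem_bot] at h2
      rw [Submodule.mem_bot]
      exact hι (by rw [h2, map_zero])
    · right
      rw [eq_top_iff]
      intro x _
      have h2 : ι x ∈ X.map ι := by rw [h1, ← hιW]; exact ⟨x, rfl⟩
      obtain ⟨y, hy, hyx⟩ := h2
      rw [← hι hyx]
      exact hy

end Irr

end Cfsg.Agent.H880.Tor
end

-- part: H880/TorD
section
/-!
# S3235, row `PSU_n(q)` in cross characteristic: linear algebra of an irreducible map `T` (for helper103)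

* `schur`, `schur_mul` : the commutant of `T` is a domain acting freely;
* `card_le_of_roots` : at most `dim V` of the powers of `T` are conjugate to `T`;
* `natDegree_ge` : if `x T x⁻¹ = T ^ a` and the `T ^ (a ^ i)`, `i < N`, are distinct, `x` has degree at least `N`;
* `exists_cyclic` : if `x` has degree `dim V`, the commutant of `x` acts freely on some vector;
* `card_dvd_of_free` : the order of a group acting freely on `X` divides `|X|`.
-/

set_option autoImplicit false
set_option linter.unusedSectionVars false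

namespace Cfsg.Agent.H880.Tor

open Module Polynomial

section Lin

variable {K V : Type*} [Field K] [AddCommGroup V] [Module K V]

/-- irreducible endomorphism -/
def Irr (T : Module.End K V) : Prop := ∀ W : Submodule K V, (∀ w ∈ W, T w ∈ W) → W = ⊥ ∨ W = ⊤

theorem schur {T : Module.End K V} (hs : Irr T) {S : Module.End K V} (hS : S * T = T * S) {v : V} (hv : v ≠ 0)
    (h : S v = 0) : S = 0 := by
  rcases hs (LinearMap.ker S) (by
    intro w hw
    rw [LinearMap.mem_ker] at hw ⊢
    have h2 : (S * T) w = (T * S) w := by rw [hS]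
    rw [Module.End.mul_apply, Module.End.mul_apply, hw, map_zero] at h2
    exact h2) with h1 | h1
  · exfalso
    have h2 : v ∈ LinearMap.ker S := h
    rw [h1, Submodule.mem_bot] at h2
    exact hv h2
  · exact LinearMap.ker_eq_top.1 h1

/-- no zero divisors -/
theorem schur_mul {T : Module.End K V} (hs : Irr T) {A B : Module.End K V} (hA : A * T = T * A)
    (h : A * B = 0) : A = 0 ∨ B = 0 := by
  by_cases hA0 : A = 0
  · exact Or.inl hA0
  · right
    ext v
    by_contra hv
    have h1 : A (B v) = 0 := by rw [← Module.End.mul_apply, h]; rfl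
    exact hA0 (schur hs hA hv h1)

theorem conj_aeval {T x : Module.End K V} {a : ℕ} (hx : x * T = T ^ a * x) (f : K[X]) :
    x * aeval T f = aeval (T ^ a) f * x := by
  have h1 : ∀ k : ℕ, x * T ^ k = (T ^ a) ^ k * x := by
    intro k
    induction k with
    | zero => rw [pow_zero, pow_zero, one_mul, mul_one]
    | succ k ih => rw [pow_succ, ← mul_assoc, ih, mul_assoc, hx, ← mul_assoc, pow_succ]
  rw [aeval_eq_sum_range, aeval_eq_sum_range, Finset.mul_sum, Finset.sum_mul]
  refine Finset.sum_congr rfl fun i _ => ?_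
  rw [mul_smul_comm, smul_mul_assoc, h1]

theorem conj_root {T x y : Module.End K V} {a : ℕ} (hx : x * T = T ^ a * x) (hxy : x * y = 1) :
    aeval (T ^ a) (minpoly K T) = 0 := by
  have h1 := conj_aeval hx (minpoly K T)
  rw [minpoly.aeval, mul_zero] at h1
  calc aeval (T ^ a) (minpoly K T) = aeval (T ^ a) (minpoly K T) * x * y := by rw [mul_assoc, hxy, mul_one]
    _ = 0 := by rw [← h1, zero_mul]

/-- at most `dim V` powers of `T` are roots of the minimal polynomial of `T` -/
theorem card_le_of_roots [FiniteDimensional K V] [Nontrivial V] {T : Module.End K V} (hs : Irr T) (J : Finset ℕ)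
    (hinj : ∀ i ∈ J, ∀ j ∈ J, T ^ i = T ^ j → i = j) (hroot : ∀ j ∈ J, aeval (T ^ j) (minpoly K T) = 0) :
    J.card ≤ finrank K V := by
  classical
  have hirr := H469.IrrCyc.minpoly_irreducible T hs
  rw [H469.IrrCyc.finrank_eq T hs]
  set f := minpoly K T with hf
  have hfact : Fact (Irreducible f) := ⟨hirr⟩
  have hP0 : f.map (algebraMap K (AdjoinRoot f)) ≠ 0 :=
    (Polynomial.map_ne_zero_iff (algebraMap K (AdjoinRoot f)).injective).2 hirr.ne_zero
  have hkey : ∀ h : K[X], AdjoinRoot.mk f h = 0 ↔ aeval T h = 0 := by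
    intro h
    rw [AdjoinRoot.mk_eq_zero]
    constructor
    · rintro ⟨g, rfl⟩
      rw [map_mul, hf, minpoly.aeval, zero_mul]
    · intro h1
      exact minpoly.dvd K T h1
  have hsub : J.image (fun j => (AdjoinRoot.root f) ^ j) ⊆ (f.map (algebraMap K (AdjoinRoot f))).roots.toFinset := by
    intro y hy
    obtain ⟨j, hj, rfl⟩ := Finset.mem_image.1 hy
    rw [Multiset.mem_toFinset, mem_roots hP0, IsRoot.def, eval_map_algebraMap]
    have h1 : aeval (AdjoinRoot.root f ^ j) f = AdjoinRoot.mk f (f.comp (X ^ j)) := by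
      rw [← AdjoinRoot.aeval_eq, aeval_comp, map_pow, aeval_X]
    show aeval (AdjoinRoot.root f ^ j) f = 0
    rw [h1, hkey, aeval_comp, map_pow, aeval_X]
    exact hroot j hj
  have hcard : (J.image (fun j => (AdjoinRoot.root f) ^ j)).card = J.card := by
    apply Finset.card_image_of_injOn
    intro i hi j hj hij
    apply hinj i hi j hj
    have h1 : AdjoinRoot.mk f (X ^ i - X ^ j) = 0 := by
      rw [map_sub, map_pow, map_pow, AdjoinRoot.mk_X]
      exact sub_eq_zero.2 hij
    rw [hkey, map_sub, map_pow, map_pow, aeval_X] at h1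
    exact sub_eq_zero.1 h1
  calc J.card = (J.image (fun j => (AdjoinRoot.root f) ^ j)).card := hcard.symm
    _ ≤ (f.map (algebraMap K (AdjoinRoot f))).roots.toFinset.card := Finset.card_le_card hsub
    _ ≤ Multiset.card (f.map (algebraMap K (AdjoinRoot f))).roots := Multiset.toFinset_card_le _
    _ ≤ (f.map (algebraMap K (AdjoinRoot f))).natDegree := card_roots' _
    _ = f.natDegree := natDegree_map _

/-- Dedekind independence -/
theorem dedekind {T : Module.End K V} (hs : Irr T) {x : Module.End K V} {a : ℕ}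
    (hx : ∀ i, x ^ i * T = T ^ a ^ i * x ^ i) {y : Module.End K V} (hxy : x * y = 1) (s : Finset ℕ)
    (hinj : ∀ i ∈ s, ∀ j ∈ s, T ^ a ^ i = T ^ a ^ j → i = j) :
    ∀ C : ℕ → Module.End K V, (∀ i ∈ s, C i * T = T * C i) → ∑ i ∈ s, C i * x ^ i = 0 → ∀ i ∈ s, C i = 0 := by
  classical
  induction s using Finset.induction_on with
  | empty => intro C _ _ i hi; exact absurd hi (Finset.notMem_empty i)
  | insert j s hj ih =>
    intro C hC h
    have ih' := ih (fun i hi k hk => hinj i (Finset.mem_insert_of_mem hi) k (Finset.mem_insert_of_mem hk))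
    rw [Finset.sum_insert hj] at h
    have h1 : C j * x ^ j * T + (∑ i ∈ s, C i * x ^ i) * T = 0 := by rw [← add_mul, h, zero_mul]
    have h2 : T ^ a ^ j * (C j * x ^ j) + T ^ a ^ j * (∑ i ∈ s, C i * x ^ i) = 0 := by rw [← mul_add, h, mul_zero]
    have hcj : ∀ i ∈ insert j s, ∀ k : ℕ, C i * T ^ k = T ^ k * C i := by
      intro i hi k
      have h3 : Commute (C i) T := hC i hi
      exact h3.pow_right k
    have h3 : C j * x ^ j * T = T ^ a ^ j * (C j * x ^ j) := by
      rw [mul_assoc, hx, ← mul_assoc, hcj j (Finset.mem_insert_self j s), mul_assoc]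
    have h4 : (∑ i ∈ s, C i * x ^ i) * T = T ^ a ^ j * (∑ i ∈ s, C i * x ^ i) := by
      rw [h3] at h1
      exact add_left_cancel (h1.trans h2.symm)
    rw [Finset.sum_mul, Finset.mul_sum] at h4
    have h5 : ∑ i ∈ s, C i * (T ^ a ^ i - T ^ a ^ j) * x ^ i = 0 := by
      have h6 : ∑ i ∈ s, C i * (T ^ a ^ i - T ^ a ^ j) * x ^ i =
          ∑ i ∈ s, C i * x ^ i * T - ∑ i ∈ s, T ^ a ^ j * (C i * x ^ i) := by
        rw [← Finset.sum_sub_distrib]
        refine Finset.sum_congr rfl fun i hi => ?_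
        rw [mul_sub, sub_mul, mul_assoc (C i) (x ^ i) T, hx, ← mul_assoc (C i),
          hcj i (Finset.mem_insert_of_mem hi) (a ^ j), mul_assoc (T ^ a ^ j)]
      rw [h6, h4, sub_self]
    have h6 := ih' (fun i => C i * (T ^ a ^ i - T ^ a ^ j)) (by
      intro i hi
      have k1 : Commute (C i) T := hC i (Finset.mem_insert_of_mem hi)
      have k2 : Commute (T ^ a ^ i - T ^ a ^ j) T := ((Commute.refl T).pow_left _).sub_left ((Commute.refl T).pow_left _)
      exact k1.mul_left k2) h5
    have h7 : ∀ i ∈ s, C i = 0 := by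
      intro i hi
      rcases schur_mul hs (hC i (Finset.mem_insert_of_mem hi)) (h6 i hi) with h8 | h8
      · exact h8
      · exfalso
        have h9 := hinj i (Finset.mem_insert_of_mem hi) j (Finset.mem_insert_self j s) (sub_eq_zero.1 h8)
        rw [h9] at hi
        exact hj hi
    intro i hi
    rcases Finset.mem_insert.1 hi with rfl | hi
    · have h8 : ∑ k ∈ s, C k * x ^ k = 0 := Finset.sum_eq_zero fun k hk => by rw [h7 k hk, zero_mul]
      rw [h8, add_zero] at h
      have h9 : ∀ k : ℕ, x ^ k * y ^ k = 1 := by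
        intro k
        induction k with
        | zero => rw [pow_zero, pow_zero, one_mul]
        | succ k ihk => rw [pow_succ, pow_succ' y, mul_assoc, ← mul_assoc x, hxy, one_mul, ihk]
      calc C i = C i * x ^ i * y ^ i := by rw [mul_assoc, h9, mul_one]
        _ = 0 := by rw [h, zero_mul]
    · exact h7 i hi

/-- the degree of a map acting on `K[T]` as an automorphism of order at least `N` -/
theorem natDegree_ge [FiniteDimensional K V] [Nontrivial V] {T : Module.End K V} (hs : Irr T) {x y : Module.End K V} {a N : ℕ}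
    (hx : x * T = T ^ a * x) (hxy : x * y = 1)
    (hinj : ∀ i < N, ∀ j < N, T ^ a ^ i = T ^ a ^ j → i = j) : N ≤ (minpoly K x).natDegree := by
  classical
  by_contra hlt
  push Not at hlt
  have hxi : ∀ i, x ^ i * T = T ^ a ^ i * x ^ i := by
    intro i
    induction i with
    | zero => rw [pow_zero, pow_zero, pow_one, one_mul, mul_one]
    | succ i ih =>
      have h1 := conj_aeval hx (X ^ a ^ i : K[X])
      rw [map_pow, map_pow, aeval_X, aeval_X, ← pow_mul] at h1
      rw [pow_succ', mul_assoc, ih, ← mul_assoc, h1, mul_assoc, pow_succ' a]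
  have h0 := minpoly.aeval K x
  rw [aeval_eq_sum_range] at h0
  have h1 := dedekind hs hxi hxy (Finset.range ((minpoly K x).natDegree + 1)) (by
    intro i hi j hj
    rw [Finset.mem_range] at hi hj
    exact hinj i (by omega) j (by omega)) (fun i => (minpoly K x).coeff i • 1) (by
    intro i _
    rw [smul_mul_assoc, mul_smul_comm, one_mul, mul_one]) (by
    rw [← h0]
    refine Finset.sum_congr rfl fun i _ => ?_
    rw [smul_mul_assoc, one_mul]) (minpoly K x).natDegree (Finset.self_mem_range_succ _)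
  have hm : (minpoly K x).coeff (minpoly K x).natDegree = 1 :=
    (minpoly.monic (Algebra.IsIntegral.isIntegral x)).coeff_natDegree
  simp only [hm, one_smul] at h1
  exact one_ne_zero h1

/-- if `x` has degree `dim V`, the commutant of `x` acts freely on some vector -/
theorem exists_cyclic [FiniteDimensional K V] {x : Module.End K V} (hd : (minpoly K x).natDegree = finrank K V) :
    ∃ v : V, ∀ y : Module.End K V, y * x = x * y → y v = 0 → y = 0 := by
  obtain ⟨v, hv⟩ := H141.Ore.exists_cyclic_vector x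
  refine ⟨v, fun y hy hyv => ?_⟩
  have hker : LinearMap.ker (H469.IrrCyc.orbMap x v) =
      (Ideal.span {minpoly K x} : Ideal K[X]).restrictScalars K := by
    ext f
    rw [LinearMap.mem_ker, Submodule.restrictScalars_mem, Ideal.mem_span_singleton, H469.IrrCyc.orbMap_apply]
    constructor
    · exact hv f
    · rintro ⟨g, rfl⟩
      rw [map_mul, minpoly.aeval, zero_mul, LinearMap.zero_apply]
  have hrange : LinearMap.range (H469.IrrCyc.orbMap x v) = ⊤ := by
    apply Submodule.eq_top_of_finrank_eq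
    have e := (H469.IrrCyc.orbMap x v).quotKerEquivRange
    rw [← e.finrank_eq, hker, ← hd]
    exact finrank_quotient_span_eq_natDegree
  ext w
  obtain ⟨g, hg⟩ : w ∈ LinearMap.range (H469.IrrCyc.orbMap x v) := by rw [hrange]; trivial
  rw [← hg, H469.IrrCyc.orbMap_apply]
  have h1 : y * aeval x g = aeval x g * y := by
    have h2 : Commute y (aeval x g) := by
      refine Algebra.commute_of_mem_adjoin_singleton_of_commute (R := K) (a := y) (b := x) ?_ hy
      rw [Algebra.adjoin_singleton_eq_range_aeval]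
      exact ⟨g, rfl⟩
    exact h2
  rw [← Module.End.mul_apply, h1, Module.End.mul_apply, hyv, map_zero, LinearMap.zero_apply]

end Lin

/-- free actions -/
theorem card_dvd_of_free {C X : Type*} [Group C] [Finite C] [MulAction C X] [Finite X]
    (h : ∀ (x : X) (c : C), c • x = x → c = 1) : Nat.card C ∣ Nat.card X := by
  have h1 : ∀ b : X, MulAction.stabilizer C b = ⊥ := by
    intro b
    rw [eq_bot_iff]
    intro c hc
    rw [MulAction.mem_stabilizer_iff] at hc
    rw [Subgroup.mem_bot]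
    exact h b c hc
  rw [Nat.card_congr (MulAction.selfEquivOrbitsQuotientProd h1), Nat.card_prod]
  exact Dvd.intro_left _ rfl

end Cfsg.Agent.H880.Tor
end

-- part: H880/TorE
section
/-!
# S3235, row `PSU_n(q)` in cross characteristic: the irreducible case, I (for helper103)

* `card_comap`, `card_centralizer_le` : counting in a central quotient;
* `center_scalar` : the centre of `SU_m(q)` consists of scalars if there is an irreducible element;
* `exists_nc` : a noncommuting conjugate;
* `exists_lift` : an irreducible `g` with `Pr p ⟨pr g⟩` can be chosen with `g ^ p = 1`.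
-/

set_option autoImplicit false
set_option linter.unusedSectionVars false

namespace Cfsg.Agent.H880.Tor

open Matrix Subgroup Module Cfsg
open Cfsg.Agent.LieClassical.HermBasic Cfsg.Agent.LieClassical.HermSiegel
open Cfsg.Agent.ClassicalGeometry.PSUAutBasic Cfsg.Agent.ClassicalGeometry.HermOrtho
open Cfsg.Agent.H880.Cl (toEnd toEnd_apply toEnd_injective quasi_two)
open Cfsg.Agent.H103.Tor (Pr Cm cj)

section Group

variable {G K : Type*} [Group G] [Group K]

theorem card_comap [Finite G] {f : G →* K} (hf : Function.Surjective f) (H : Subgroup K) :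
    Nat.card (H.comap f) = Nat.card H * Nat.card f.ker := by
  have : Finite K := Finite.of_surjective f hf
  have h1 := (H.comap f).card_mul_index
  have h2 := H.card_mul_index
  have h3 := f.ker.card_mul_index
  rw [index_comap_of_surjective H hf] at h1
  have h4 : f.ker.index = Nat.card K := by
    rw [Subgroup.index_ker, MonoidHom.range_eq_top.2 hf, Subgroup.card_top]
  rw [h4, ← h2] at h3
  rw [← h3] at h1
  have h5 : 0 < H.index := Nat.pos_of_ne_zero H.index_ne_zero_of_finite
  apply Nat.eq_of_mul_eq_mul_right h5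
  rw [h1]
  ring

theorem card_centralizer_le [Finite G] {f : G →* K} (hf : Function.Surjective f) (x : G) :
    Nat.card (centralizer ({f x} : Set K)) ≤ Nat.card (centralizer ({x} : Set G)) := by
  classical
  have : Fintype G := Fintype.ofFinite G
  have h1 := card_comap hf (centralizer ({f x} : Set K))
  have hpos : 0 < Nat.card f.ker := Nat.card_pos
  refine Nat.le_of_mul_le_mul_right ?_ hpos
  rw [← h1]
  have h2 := Finset.card_le_mul_card_image (f := fun y => y * x * y⁻¹ * x⁻¹)
    (Finset.univ.filter fun y : G => y ∈ (centralizer ({f x} : Set K)).comap f) (Nat.card (centralizer ({x} : Set G))) ?_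
  · have h3 : Nat.card ((centralizer ({f x} : Set K)).comap f) =
        (Finset.univ.filter fun y : G => y ∈ (centralizer ({f x} : Set K)).comap f).card := by
      rw [Nat.card_eq_fintype_card, ← Fintype.card_subtype]
    rw [h3]
    refine le_trans h2 (Nat.mul_le_mul_left _ ?_)
    have h4 : Nat.card f.ker = (Finset.univ.filter fun y : G => y ∈ f.ker).card := by
      rw [Nat.card_eq_fintype_card, ← Fintype.card_subtype]
    rw [h4]
    apply Finset.card_le_card
    intro z hz
    obtain ⟨y, hy, rfl⟩ := Finset.mem_image.1 hz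
    rw [Finset.mem_filter] at hy ⊢
    refine ⟨Finset.mem_univ _, ?_⟩
    have h5 : f y * f x = f x * f y := by
      have := hy.2
      rw [mem_comap, mem_centralizer_singleton_iff] at this
      exact this
    rw [MonoidHom.mem_ker, map_mul, map_mul, map_mul, h5, map_inv, map_inv, mul_inv_cancel_right, mul_inv_cancel]
  · intro z hz
    obtain ⟨y, hy, rfl⟩ := Finset.mem_image.1 hz
    rw [Nat.card_eq_fintype_card, Fintype.card_subtype]
    apply Finset.card_le_card_of_injOn (fun w => y⁻¹ * w)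
    · intro w hw
      simp only [Finset.coe_filter, Set.mem_ofPred_eq, Finset.mem_univ, true_and] at hw ⊢
      obtain ⟨-, hw⟩ := hw
      have h6 : w * x * w⁻¹ = y * x * y⁻¹ := mul_right_cancel hw
      rw [mem_centralizer_singleton_iff]
      calc y⁻¹ * w * x = y⁻¹ * (w * x * w⁻¹) * w := by group
        _ = y⁻¹ * (y * x * y⁻¹) * w := by rw [h6]
        _ = x * (y⁻¹ * w) := by group
    · intro a _ b _ hab
      exact mul_left_cancel hab

theorem root_of {Z : Type*} [Group Z] {ζ z : Z} (hc : Commute ζ z) {p : ℕ} (h3 : Nat.Coprime 3 p)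
    (h : ζ ^ 3 * z ^ p = 1) : ∃ a b : ℤ, (z ^ a * ζ ^ b) ^ p = ζ := by
  have hb : (3 : ℤ) * Nat.gcdA 3 p + p * Nat.gcdB 3 p = 1 := by
    have h1 := Nat.gcd_eq_gcd_ab 3 p
    rw [h3] at h1
    exact_mod_cast h1.symm
  refine ⟨-Nat.gcdA 3 p, Nat.gcdB 3 p, ?_⟩
  have h1 : ζ ^ (3 : ℤ) = (z ^ (p : ℤ))⁻¹ := by
    have h2 := eq_inv_of_mul_eq_one_left h
    rw [zpow_natCast, ← h2]
    exact_mod_cast rfl
  have h2 : (z ^ (-Nat.gcdA 3 p)) ^ p = ζ ^ ((3 : ℤ) * Nat.gcdA 3 p) := by
    rw [_root_.zpow_mul, h1, _root_.inv_zpow, ← zpow_natCast, ← _root_.zpow_mul, ← _root_.zpow_mul, ← _root_.zpow_neg]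
    congr 1
    ring
  have h4 : (ζ ^ Nat.gcdB 3 p) ^ p = ζ ^ ((p : ℤ) * Nat.gcdB 3 p) := by
    rw [← zpow_natCast, ← _root_.zpow_mul, mul_comm]
  rw [((hc.symm.zpow_left _).zpow_right _).mul_pow, h2, h4, ← _root_.zpow_add, hb, _root_.zpow_one]

end Group

section Basic

variable {F : Type*} [Field F] [Fintype F] {q m : ℕ}

theorem exists_sing_top (hF : Fintype.card F = q ^ 2) (hm : 2 ≤ m) :
    ∃ u : Fin m → F, u ≠ 0 ∧ hermForm m F q u u = 0 := by
  have hnd : ∀ u ∈ (⊤ : Submodule F (Fin m → F)), (∀ v ∈ (⊤ : Submodule F (Fin m → F)), hermForm m F q u v = 0) →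
      u = 0 := by
    intro u _ hu
    by_contra hu0
    obtain ⟨v, hv⟩ := exists_herm_ne_zero hF hu0
    exact hv (hu v trivial)
  obtain ⟨u, -, hu0, huu⟩ := exists_sing hF hnd (by rw [finrank_top, finrank_fin_fun]; omega)
  exact ⟨u, hu0, huu⟩

/-- the centre consists of scalars -/
theorem center_scalar (hF : Fintype.card F = q ^ 2) (hm : 2 ≤ m) {g : SU m F q} (hs : Irr (toEnd m F q g))
    {z : SU m F q} (hz : z ∈ center (SU m F q)) : ∃ c : F, c ≠ 0 ∧ ∀ v, act z v = c • v := by
  obtain ⟨u, hu0, huu⟩ := exists_sing_top hF hm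
  obtain ⟨μ, hμ0, hμ⟩ := exists_trace_zero_ne hF
  obtain ⟨c, hc⟩ := sing_of_comm hF (g := z) hu0 huu hμ0 hμ (mem_center_iff.1 hz _).symm
  have h1 : toEnd m F q z - c • 1 = 0 := by
    refine schur hs ?_ hu0 ?_
    · rw [sub_mul, mul_sub, ← map_mul, ← map_mul, (mem_center_iff.1 hz g), smul_mul_assoc, mul_smul_comm, one_mul,
        mul_one]
    · rw [LinearMap.sub_apply, toEnd_apply, hc, LinearMap.smul_apply, Module.End.one_apply, sub_self]
  refine ⟨c, ?_, fun v => ?_⟩
  · rintro rfl
    rw [zero_smul, act_eq_zero] at hc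
    exact hu0 hc
  · have h2 := congrArg (fun S => S v) (sub_eq_zero.1 h1)
    exact h2

end Basic

section Lift

variable {F : Type} [Field F] [Fintype F] {q m : ℕ}

/-- a noncommuting conjugate -/
theorem exists_nc (hF : Fintype.card F = q ^ 2) (hm : 2 ≤ m) {p : ℕ} (hp : p.Prime) (hp5 : 5 ≤ p)
    {A : Subgroup (PSU m F q)} (h : Pr p A) : ∃ x : PSU m F q, ¬ Cm A (cj x A) := by
  have hq2 := two_le hF
  have key : IsQuasisimple (SU m F q) → ∃ x : PSU m F q, ¬ Cm A (cj x A) := by
    intro hq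
    have hsim : IsSimpleGroup (PSU m F q) := hq.2
    apply h.exists_noncomm_simple hp hp5
    intro hab
    have h1 : _root_.commutator (SU m F q) = ⊤ := hq.1.1
    have h2 : _root_.commutator (SU m F q) ≤ center (SU m F q) := by
      rw [_root_.commutator_def, Subgroup.commutator_le]
      intro x _ y _
      rw [← pr_eq_one_iff, map_commutatorElement, commutatorElement_eq_one_iff_mul_comm]
      exact hab _ _
    rw [h1, top_le_iff] at h2
    obtain ⟨x, hx⟩ := exists_ne (1 : PSU m F q)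
    obtain ⟨y, rfl⟩ := pr_surjective x
    apply hx
    rw [pr_eq_one_iff, h2]
    trivial
  by_cases h3 : 3 ≤ m ∧ ¬ (m = 3 ∧ q = 2)
  · exact key (GenPsu.quasi hF h3.1 h3.2)
  by_cases h4 : 4 ≤ q ∧ m = 2
  · obtain ⟨h4, rfl⟩ := h4
    exact key (quasi_two hF h4)
  · exfalso
    apply not_dvd_small (F := F) (m := m) hF hp hp5 (by omega)
    rw [← h.card]
    exact (card_subgroup_dvd_card A).trans (card_quotient_dvd_card _)

/-- **Kummer.** -/
theorem exists_lift (hF : Fintype.card F = q ^ 2) (hm : 2 ≤ m) {p : ℕ} (hp : p.Prime) (hp5 : 5 ≤ p) {g : SU m F q}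
    (h : Pr p (zpowers (pr m F q g))) : ∃ T : SU m F q, T ^ p = 1 ∧ ∃ z ∈ center (SU m F q), g = T * z := by
  obtain ⟨x₀, hx₀⟩ := exists_nc hF hm hp hp5 h
  obtain ⟨t, ht⟩ := h.exists_sq hp hp5 hx₀ 2 (fun hd => by have := Nat.le_of_dvd (by norm_num) hd; omega)
  obtain ⟨x, rfl⟩ := pr_surjective t
  have h1 := ht _ (mem_zpowers _)
  have h2 : pr m F q (g ^ 4) = pr m F q (x * g * x⁻¹) := by
    rw [map_mul, map_mul, map_inv, h1, map_pow]
    norm_num
  obtain ⟨z, hz, hxz⟩ := exists_center_mul h2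
  have hord : orderOf (pr m F q g) = p := by rw [← Nat.card_zpowers]; exact h.card
  have hζ : g ^ p ∈ center (SU m F q) := by
    rw [← pr_eq_one_iff, map_pow, ← hord, pow_orderOf_eq_one]
  have hcz : Commute (g ^ 4) z := by
    show g ^ 4 * z = z * g ^ 4
    exact mem_center_iff.1 hz _
  have h3 : (g ^ p) ^ 3 * z ^ p = 1 := by
    have h4 : (x * g * x⁻¹) ^ p = g ^ p := by
      rw [conj_pow, mem_center_iff.1 hζ x, mul_inv_cancel_right]
    rw [hxz, hcz.mul_pow, ← pow_mul, mul_comm 4 p, pow_mul] at h4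
    have h5 : g ^ p * ((g ^ p) ^ 3 * z ^ p) = g ^ p * 1 := by
      rw [← mul_assoc, ← pow_succ', h4, mul_one]
    exact mul_left_cancel h5
  have hcζ : Commute (g ^ p) z := mem_center_iff.1 hz _
  obtain ⟨a, b, hab⟩ := root_of hcζ (p := p) (by
    rw [Nat.coprime_primes (by norm_num) hp]; omega) h3
  have hη : z ^ a * (g ^ p) ^ b ∈ center (SU m F q) :=
    (center (SU m F q)).mul_mem ((center (SU m F q)).zpow_mem hz a) ((center (SU m F q)).zpow_mem hζ b)
  set η := z ^ a * (g ^ p) ^ b with hη'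
  have hc : Commute g η⁻¹ := by
    have h6 : Commute g η := mem_center_iff.1 hη g
    exact h6.inv_right
  refine ⟨g * η⁻¹, ?_, η, hη, by group⟩
  rw [hc.mul_pow, inv_pow, hab, mul_inv_cancel]

end Lift

end Cfsg.Agent.H880.Tor
end

-- part: H880/TorF
section
/-!
# S3235, row `PSU_n(q)` in cross characteristic: the irreducible case, II (for helper103)

`T ∈ SU_m(q)` irreducible, `T ^ p = 1`, `Pr p ⟨pr T⟩`:
* `not_dvd` : `p ∤ q^(2k) - 1` for `0 < k < m`;
* `odd_dvd` : `m` is odd, `|C(T)| ∣ q ^ m + 1`, `p ∣ q ^ m + 1`;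
* `eq_pow_of_pr` : `pr (x T x⁻¹) = pr (T ^ j)` gives `x T x⁻¹ = T ^ j`;
* `card_cent` : `|C(pr T)| |Z| = |C(T)|`;
* `card_norm` : `|N(⟨pr T⟩)| |Z| ≤ m |C(T)|`.
-/

set_option autoImplicit false
set_option linter.unusedSectionVars false

namespace Cfsg.Agent.H880.Tor

open Matrix Subgroup Module Cfsg
open Cfsg.Agent.LieClassical.HermBasic Cfsg.Agent.LieClassical.HermSiegel
open Cfsg.Agent.ClassicalGeometry.PSUAutBasic Cfsg.Agent.ClassicalGeometry.HermOrtho
open Cfsg.Agent.H880.Cl (toEnd toEnd_apply toEnd_injective quasi_two)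
open Cfsg.Agent.H103.Tor (Pr Cm cj)

section Basic

variable {F : Type*} [Field F] [Fintype F] {q m : ℕ}

/-- the action on the vectors of norm one -/
abbrev normAct (m : ℕ) (F : Type*) [Field F] (q : ℕ) :
    MulAction (SU m F q) {v : Fin m → F // hermForm m F q v v = 1} where
  smul g v := ⟨act g v.1, by rw [herm_act, v.2]⟩
  one_smul v := Subtype.ext (act_one v.1)
  mul_smul g h v := Subtype.ext (act_mul g h v.1)

/-- the action on the nonzero vectors -/
abbrev neAct (m : ℕ) (F : Type*) [Field F] (q : ℕ) : MulAction (SU m F q) {v : Fin m → F // v ≠ 0} where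
  smul g v := ⟨act g v.1, fun h => v.2 ((act_eq_zero g).1 h)⟩
  one_smul v := Subtype.ext (act_one v.1)
  mul_smul g h v := Subtype.ext (act_mul g h v.1)

/-- elements of the centraliser of an irreducible element act freely -/
theorem eq_one_of_fix {T : SU m F q} (hs : Irr (toEnd m F q T)) {c : SU m F q} (hc : c * T = T * c) {v : Fin m → F}
    (hv : v ≠ 0) (h : act c v = v) : c = 1 := by
  have h1 : toEnd m F q c - 1 = 0 := by
    refine schur hs ?_ hv ?_
    · rw [sub_mul, mul_sub, ← map_mul, ← map_mul, hc, one_mul, mul_one]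
    · rw [LinearMap.sub_apply, toEnd_apply, h, Module.End.one_apply, sub_self]
  apply toEnd_injective
  rw [sub_eq_zero.1 h1, map_one]

theorem card_dvd_norm {T : SU m F q} (hs : Irr (toEnd m F q T)) :
    Nat.card (centralizer ({T} : Set (SU m F q))) ∣ Nat.card {v : Fin m → F // hermForm m F q v v = 1} := by
  let _ := normAct m F q
  apply card_dvd_of_free
  intro v c hc
  have h1 : act (c : SU m F q) v.1 = v.1 := congrArg Subtype.val hc
  apply Subtype.ext
  refine eq_one_of_fix hs (mem_centralizer_singleton_iff.1 c.2) ?_ h1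
  intro h0
  have h2 := v.2
  rw [h0, herm_zero_left] at h2
  exact zero_ne_one h2

theorem card_dvd_ne (hF : Fintype.card F = q ^ 2) {T : SU m F q} (hs : Irr (toEnd m F q T)) :
    Nat.card (centralizer ({T} : Set (SU m F q))) ∣ (q ^ 2) ^ m - 1 := by
  classical
  let _ := neAct m F q
  have h1 : Nat.card (centralizer ({T} : Set (SU m F q))) ∣ Nat.card {v : Fin m → F // v ≠ 0} := by
    apply card_dvd_of_free
    intro v c hc
    have h1 : act (c : SU m F q) v.1 = v.1 := congrArg Subtype.val hc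
    exact Subtype.ext (eq_one_of_fix hs (mem_centralizer_singleton_iff.1 c.2) v.2 h1)
  have h2 : Nat.card {v : Fin m → F // v ≠ 0} = (q ^ 2) ^ m - 1 := by
    rw [Nat.card_eq_fintype_card, Fintype.card_subtype_compl, Fintype.card_fun, Fintype.card_fin, hF]
    simp
  rwa [h2] at h1

end Basic

section Irr

variable {F : Type} [Field F] [Fintype F] {q m : ℕ}

theorem orderOf_eq {p : ℕ} (hp : p.Prime) {T : SU m F q} (hTp : T ^ p = 1) (h : Pr p (zpowers (pr m F q T))) :
    orderOf T = p ∧ orderOf (pr m F q T) = p := by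
  have hord : orderOf (pr m F q T) = p := by rw [← Nat.card_zpowers]; exact h.card
  refine ⟨?_, hord⟩
  have hpf := Fact.mk hp
  refine orderOf_eq_prime hTp ?_
  rintro rfl
  rw [map_one, orderOf_one] at hord
  exact hp.one_lt.ne hord

/-- the order of `q ^ 2` modulo `p` -/
theorem not_dvd (hF : Fintype.card F = q ^ 2) (hm : 2 ≤ m) {r : ℕ} [Fact r.Prime] [CharP F r] {p : ℕ}
    (hp : p.Prime) (hrp : r ≠ p) {T : SU m F q} (hTp : T ^ p = 1) (h : Pr p (zpowers (pr m F q T)))
    (hs : Irr (toEnd m F q T)) : ∀ k, 0 < k → k < m → ¬ p ∣ (q ^ 2) ^ k - 1 := by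
  have hpf := Fact.mk hp
  have hne : Nonempty (Fin m) := ⟨⟨0, by omega⟩⟩
  obtain ⟨hT, -⟩ := orderOf_eq hp hTp h
  have h1 := H877.RadPSL.ord_of_irr (F := F) (r := r) (p := p) hrp.symm (toEnd m F q T)
    (by rw [← map_pow, hTp, map_one]) (by
      intro h1
      have h2 : T = 1 := toEnd_injective (by rw [h1, map_one])
      rw [h2, orderOf_one] at hT
      exact hp.one_lt.ne hT) hs
  intro k hk hkm
  have h2 := h1 k hk (by rw [finrank_fin_fun]; exact hkm)
  rwa [Nat.card_eq_fintype_card, hF] at h2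

theorem not_dvd_q (hF : Fintype.card F = q ^ 2) {r : ℕ} [Fact r.Prime] [CharP F r] {p : ℕ}
    (hp : p.Prime) (hrp : r ≠ p) : ¬ p ∣ q := by
  intro hd
  have hr : r.Prime := Fact.out
  obtain ⟨f, -, hf⟩ := FiniteField.card F r
  have h1 : p ∣ r ^ (f : ℕ) := by rw [← hf, hF]; exact dvd_pow hd two_ne_zero
  exact hrp ((Nat.prime_dvd_prime_iff_eq hp hr).1 (hp.dvd_of_dvd_pow h1)).symm

/-- **The degree is odd.** -/
theorem odd_dvd (hF : Fintype.card F = q ^ 2) (hm : 2 ≤ m) {r : ℕ} [Fact r.Prime] [CharP F r] {p : ℕ}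
    (hp : p.Prime) (hrp : r ≠ p) {T : SU m F q} (hTp : T ^ p = 1) (h : Pr p (zpowers (pr m F q T)))
    (hs : Irr (toEnd m F q T)) :
    ¬ Even m ∧ p ∣ q ^ m + 1 ∧ Nat.card (centralizer ({T} : Set (SU m F q))) ∣ q ^ m + 1 := by
  have hq2 := two_le hF
  obtain ⟨hT, -⟩ := orderOf_eq hp hTp h
  have hpC : p ∣ Nat.card (centralizer ({T} : Set (SU m F q))) := by
    have h1 : zpowers T ≤ centralizer ({T} : Set (SU m F q)) := by
      rw [zpowers_le, mem_centralizer_singleton_iff]
    have h2 := Subgroup.card_dvd_of_le h1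
    rwa [Nat.card_zpowers, hT] at h2
  have hcop : Nat.Coprime (Nat.card (centralizer ({T} : Set (SU m F q)))) q := by
    have h1 := card_dvd_ne hF hs
    have h2 : Nat.Coprime ((q ^ 2) ^ m - 1) (q ^ 2) := by
      have h3 : 1 ≤ (q ^ 2) ^ m := Nat.one_le_pow _ _ (by positivity)
      have h4 : Nat.Coprime ((q ^ 2) ^ m - 1) ((q ^ 2) ^ m) := by
        obtain ⟨k, hk⟩ := Nat.exists_eq_add_of_le h3
        rw [hk, Nat.add_sub_cancel_left]
        rw [add_comm, Nat.coprime_self_add_right]
        exact Nat.coprime_one_right k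
      exact h4.coprime_dvd_right (dvd_pow_self _ (by omega))
    exact (h2.coprime_dvd_left h1).coprime_dvd_right (dvd_pow_self q two_ne_zero)
  have hC := card_dvd_norm hs
  rw [LieClassical.HermCount.card_norm_one hF m] at hC
  by_cases hev : Even m
  · exfalso
    rw [if_pos hev] at hC
    have h1 : Nat.card (centralizer ({T} : Set (SU m F q))) ∣ q ^ m - 1 :=
      (hcop.pow_right (m - 1)).dvd_of_dvd_mul_left hC
    obtain ⟨k, hk⟩ := hev
    refine not_dvd hF hm hp hrp hTp h hs k (by omega) (by omega) ?_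
    rw [← pow_mul, two_mul, ← hk]
    exact hpC.trans h1
  · rw [if_neg hev] at hC
    have h1 : Nat.card (centralizer ({T} : Set (SU m F q))) ∣ q ^ m + 1 :=
      (hcop.pow_right (m - 1)).dvd_of_dvd_mul_left hC
    exact ⟨hev, hpC.trans h1, h1⟩

/-- central elements of order dividing `p` -/
theorem center_eq_one (hF : Fintype.card F = q ^ 2) (hm : 2 ≤ m) {r : ℕ} [Fact r.Prime] [CharP F r] {p : ℕ}
    (hp : p.Prime) (hrp : r ≠ p) {T : SU m F q} (hTp : T ^ p = 1) (h : Pr p (zpowers (pr m F q T)))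
    (hs : Irr (toEnd m F q T)) {z : SU m F q} (hz : z ∈ center (SU m F q)) (hzp : z ^ p = 1) : z = 1 := by
  classical
  obtain ⟨c, hc0, hc⟩ := center_scalar hF hm hs hz
  have hck : ∀ k : ℕ, ∀ v, act (z ^ k) v = c ^ k • v := by
    intro k
    induction k with
    | zero => intro v; rw [pow_zero, act_one, pow_zero, one_smul]
    | succ k ih => intro v; rw [pow_succ, act_mul, hc, act_smul, ih, smul_smul, pow_succ, mul_comm]
  obtain ⟨u, hu0, -⟩ := exists_sing_top (m := m) hF hm
  have h1 : c ^ p = 1 := by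
    have h2 := hck p u
    rw [hzp, act_one] at h2
    have h3 : (c ^ p - 1) • u = 0 := by rw [sub_smul, one_smul, ← h2, sub_self]
    rcases smul_eq_zero.1 h3 with h4 | h4
    · exact sub_eq_zero.1 h4
    · exact absurd h4 hu0
  have hpq : ¬ p ∣ Nat.card Fˣ := by
    have h2 := not_dvd hF hm hp hrp hTp h hs 1 one_pos (by omega)
    rwa [pow_one, ← hF, ← Fintype.card_units, ← Nat.card_eq_fintype_card] at h2
  have h2 : (Units.mk0 c hc0) ^ p = 1 := Units.ext (by rw [Units.val_pow_eq_pow_val, Units.val_mk0, h1]; rfl)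
  have h3 : (Units.mk0 c hc0) ^ Nat.card Fˣ = 1 := pow_card_eq_one'
  have h4 := pow_gcd_eq_one.2 ⟨h2, h3⟩
  rw [(Nat.Prime.coprime_iff_not_dvd hp).2 hpq, pow_one] at h4
  have h5 : c = 1 := congrArg Units.val h4
  apply ext_act
  intro v
  rw [hc, h5, one_smul, act_one]

theorem eq_pow_of_pr (hF : Fintype.card F = q ^ 2) (hm : 2 ≤ m) {r : ℕ} [Fact r.Prime] [CharP F r] {p : ℕ}
    (hp : p.Prime) (hrp : r ≠ p) {T : SU m F q} (hTp : T ^ p = 1) (h : Pr p (zpowers (pr m F q T)))
    (hs : Irr (toEnd m F q T)) {x : SU m F q} {j : ℕ} (hx : pr m F q (x * T * x⁻¹) = pr m F q (T ^ j)) :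
    x * T * x⁻¹ = T ^ j := by
  obtain ⟨z, hz, hxz⟩ := exists_center_mul hx.symm
  have hc : Commute (T ^ j) z := mem_center_iff.1 hz _
  have h1 : z ^ p = 1 := by
    have h2 : (x * T * x⁻¹) ^ p = 1 := by rw [conj_pow, hTp, mul_one, mul_inv_cancel]
    rw [hxz, hc.mul_pow, ← pow_mul, mul_comm, pow_mul, hTp, one_pow, one_mul] at h2
    exact h2
  rw [hxz, center_eq_one hF hm hp hrp hTp h hs hz h1, mul_one]

theorem comap_centralizer (hF : Fintype.card F = q ^ 2) (hm : 2 ≤ m) {r : ℕ} [Fact r.Prime] [CharP F r] {p : ℕ}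
    (hp : p.Prime) (hrp : r ≠ p) {T : SU m F q} (hTp : T ^ p = 1) (h : Pr p (zpowers (pr m F q T)))
    (hs : Irr (toEnd m F q T)) :
    (centralizer ((zpowers (pr m F q T) : Subgroup (PSU m F q)) : Set (PSU m F q))).comap (pr m F q) =
      centralizer ({T} : Set (SU m F q)) := by
  ext x
  rw [mem_comap, mem_centralizer_singleton_iff, mem_centralizer_iff]
  constructor
  · intro h1
    have h2 := h1 _ (mem_zpowers _)
    have h3 : pr m F q (x * T * x⁻¹) = pr m F q (T ^ 1) := by
      rw [map_mul, map_mul, ← h2, map_inv, mul_inv_cancel_right, pow_one]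
    have h4 := eq_pow_of_pr hF hm hp hrp hTp h hs h3
    rw [pow_one] at h4
    exact mul_inv_eq_iff_eq_mul.1 h4
  · rintro h1 _ ⟨k, rfl⟩
    have h2 : Commute x T := h1
    have h3 : Commute (pr m F q x) (pr m F q T) := h2.map (pr m F q)
    exact (h3.zpow_right k).symm

/-- the centraliser in the quotient -/
theorem card_cent (hF : Fintype.card F = q ^ 2) (hm : 2 ≤ m) {r : ℕ} [Fact r.Prime] [CharP F r] {p : ℕ}
    (hp : p.Prime) (hrp : r ≠ p) {T : SU m F q} (hTp : T ^ p = 1) (h : Pr p (zpowers (pr m F q T)))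
    (hs : Irr (toEnd m F q T)) :
    Nat.card (centralizer ((zpowers (pr m F q T) : Subgroup (PSU m F q)) : Set (PSU m F q))) *
      Nat.card (pr m F q).ker = Nat.card (centralizer ({T} : Set (SU m F q))) := by
  rw [← card_comap pr_surjective, comap_centralizer hF hm hp hrp hTp h hs]

/-- the normaliser in the quotient -/
theorem card_norm (hF : Fintype.card F = q ^ 2) (hm : 2 ≤ m) {r : ℕ} [Fact r.Prime] [CharP F r] {p : ℕ}
    (hp : p.Prime) (hrp : r ≠ p) {T : SU m F q} (hTp : T ^ p = 1) (h : Pr p (zpowers (pr m F q T)))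
    (hs : Irr (toEnd m F q T)) :
    Nat.card (normalizer ((zpowers (pr m F q T) : Subgroup (PSU m F q)) : Set (PSU m F q))) *
      Nat.card (pr m F q).ker ≤ m * Nat.card (centralizer ({T} : Set (SU m F q))) := by
  classical
  have hne : Nonempty (Fin m) := ⟨⟨0, by omega⟩⟩
  obtain ⟨hT, hT'⟩ := orderOf_eq hp hTp h
  rw [← card_comap pr_surjective]
  set M := (normalizer ((zpowers (pr m F q T) : Subgroup (PSU m F q)) : Set (PSU m F q))).comap (pr m F q) with hM
  have : Fintype (SU m F q) := Fintype.ofFinite _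
  have hex : ∀ x : SU m F q, ∃ j : ℕ, x ∈ M → j < p ∧ x * T * x⁻¹ = T ^ j := by
    intro x
    by_cases hx : x ∈ M
    · have h1 : pr m F q x * pr m F q T * (pr m F q x)⁻¹ ∈ zpowers (pr m F q T) := by
        rw [hM, mem_comap, mem_normalizer_iff] at hx
        exact (hx _).1 (mem_zpowers _)
      rw [← mem_powers_iff_mem_zpowers] at h1
      obtain ⟨j, hj⟩ := h1
      refine ⟨j % p, fun _ => ⟨Nat.mod_lt _ hp.pos, ?_⟩⟩
      apply eq_pow_of_pr hF hm hp hrp hTp h hs
      rw [map_mul, map_mul, map_inv, map_pow]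
      have hj' : pr m F q T ^ j = pr m F q x * pr m F q T * (pr m F q x)⁻¹ := hj
      have h3 := pow_mod_orderOf (pr m F q T) j
      rw [hT'] at h3
      rw [← hj', h3]
    · exact ⟨0, fun h => absurd h hx⟩
  choose f hf using hex
  set J : Finset ℕ := (Finset.range p).filter
    (fun j => Polynomial.aeval (toEnd m F q T ^ j) (minpoly F (toEnd m F q T)) = 0) with hJ
  have hJc : J.card ≤ m := by
    have h1 := card_le_of_roots hs J (by
      intro i hi j hj hij
      rw [hJ, Finset.mem_filter, Finset.mem_range] at hi hj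
      rw [← map_pow, ← map_pow] at hij
      exact pow_injOn_Iio_orderOf (by rw [hT]; exact hi.1) (by rw [hT]; exact hj.1) (toEnd_injective hij)) (by
      intro j hj
      rw [hJ, Finset.mem_filter] at hj
      exact hj.2)
    rwa [finrank_fin_fun] at h1
  have h5 := Finset.card_le_mul_card_image (f := f) (Finset.univ.filter fun x : SU m F q => x ∈ M)
    (Nat.card (centralizer ({T} : Set (SU m F q)))) ?_
  · have h6 : Nat.card M = (Finset.univ.filter fun x : SU m F q => x ∈ M).card := by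
      rw [Nat.card_eq_fintype_card, ← Fintype.card_subtype]
    rw [h6]
    refine le_trans h5 ?_
    rw [mul_comm m]
    refine Nat.mul_le_mul_left _ (le_trans (Finset.card_le_card ?_) hJc)
    intro j hj
    obtain ⟨x, hx, rfl⟩ := Finset.mem_image.1 hj
    obtain ⟨h7, h8⟩ := hf x (Finset.mem_filter.1 hx).2
    rw [hJ, Finset.mem_filter, Finset.mem_range]
    refine ⟨h7, ?_⟩
    apply conj_root (x := toEnd m F q x) (y := toEnd m F q x⁻¹)
    · rw [← map_mul, ← map_pow, ← map_mul, ← h8, inv_mul_cancel_right]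
    · rw [← map_mul, mul_inv_cancel, map_one]
  · intro j hj
    obtain ⟨x, hx, rfl⟩ := Finset.mem_image.1 hj
    have h7 := (hf x (Finset.mem_filter.1 hx).2).2
    rw [Nat.card_eq_fintype_card, Fintype.card_subtype]
    apply Finset.card_le_card_of_injOn (fun w => x⁻¹ * w)
    · intro w hw
      simp only [Finset.coe_filter, Set.mem_ofPred_eq, Finset.mem_univ, true_and] at hw ⊢
      obtain ⟨hw1, hw2⟩ := hw
      have h8 := (hf w (Finset.mem_filter.1 hw1).2).2
      rw [hw2, ← h7] at h8
      rw [mem_centralizer_singleton_iff]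
      calc x⁻¹ * w * T = x⁻¹ * (w * T * w⁻¹) * w := by group
        _ = x⁻¹ * (x * T * x⁻¹) * w := by rw [h8]
        _ = T * (x⁻¹ * w) := by group
    · intro a _ b _ hab
      exact mul_left_cancel hab

end Irr

end Cfsg.Agent.H880.Tor
end
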